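import Cfsg.Agent.FusFive.Group
import Cfsg.Agent.MaxClass.TwoStepNormal
import Cfsg.Agent.FusSys.ThreeDim

/-!
Groups of order `p ^ 5` and maximal class without abelian subgroup of index `p`.
-/

set_option autoImplicit false

set_option maxHeartbeats 300000

namespace Cfsg.Agent.FusFive

open Subgroup
open Cfsg.Agent.MaxClass.TwoStep
open Cfsg.Agent.MaxClass.Graded (L_anti L_comm L_comm_x MX)
open scoped commutatorElement

universe u

variable {X : Type u} [Group X] [Finite X] {p : ℕ} [hp : Fact p.Prime]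

/-- The terms of the lower central series. -/
local notation "L" => fun i : ℕ => Subgroup.lowerCentralSeries (⊤ : Subgroup _) i

theorem lcs_four (h : MCl p 5 X) {g : X} {i : ℕ} (hg : g ∈ (⊤ : Subgroup X).lowerCentralSeries i)
    (hi : 4 ≤ i) : g = 1 :=
  h.eq_one (by omega) hg

/-- The last layer is central. -/
theorem lcs_three_central (h : MCl p 5 X) {g : X} (hg : g ∈ (⊤ : Subgroup X).lowerCentralSeries 3) (a : X) :
    Commute a g :=
  commutatorElement_eq_one_iff_mul_comm.1 (lcs_four h (L_comm_x hg a) (by norm_num))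

/-- `K 1` has order `p ^ 4`, coincides with `K 2` and has abelian quotient modulo `L 3`. -/
theorem k_facts (h : MCl p 5 X) (hp3 : 3 ≤ p) :
    Nat.card (K X 1) = p ^ 4 ∧ K X 2 = K X 1 ∧
      (∀ g ∈ K X 1, ∀ a ∈ (⊤ : Subgroup X).lowerCentralSeries 2, Commute g a) ∧
      ∀ g ∈ K X 1, ∀ k ∈ K X 1, ⁅g, k⁆ ∈ (⊤ : Subgroup X).lowerCentralSeries 3 := by
  have hpp := hp.out
  have hX := h.pgrp
  have h21 : K X 2 = K X 1 := h.last_eq hp3 le_rfl (by decide)
  have hcom : ∀ g ∈ K X 1, ∀ a ∈ (⊤ : Subgroup X).lowerCentralSeries 2, Commute g a := fun g hg a ha =>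
    commutatorElement_eq_one_iff_mul_comm.1 (lcs_four h (mem_K.1 (h21.symm ▸ hg : g ∈ K X 2) a ha) (by norm_num))
  obtain ⟨a, ha, ha'⟩ := h.ne_step (i := 2) (by norm_num) (by norm_num)
  have hW : Nat.card ↥((⊤ : Subgroup X).lowerCentralSeries 3) = p := by
    rw [h.cardL (by norm_num), show 5 - 1 - 3 = 1 by rfl, pow_one]
  have hidx := centralizer_index_le (n := a) (W := (⊤ : Subgroup X).lowerCentralSeries 3) fun g => L_comm_x ha g
  have hle : centralizer ({a} : Set X) ≤ K X 1 := fun g hg => h21 ▸ h.mem_K_of_one (by norm_num) ha ha'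
    (by rw [commutatorElement_eq_one_iff_mul_comm.2 (mem_centralizer_singleton_iff.1 hg)]; exact one_mem _)
  have hc : Nat.card (K X 1) = p ^ 4 := by
    obtain ⟨e, he⟩ := IsPGroup.iff_card.1 (hX.to_subgroup (K X 1))
    have h1 : e < 5 := by
      by_contra hge
      refine h.K_ne_top (i := 1) le_rfl (by norm_num) (eq_top_of_le_card _ ?_)
      rw [h.cardX, he]
      exact Nat.pow_le_pow_right hpp.pos (not_lt.1 hge)
    have h2 := (centralizer ({a} : Set X)).card_mul_index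
    have h3 : p ^ 5 ≤ p ^ e * p ^ 1 := by
      rw [← h.cardX, ← h2, pow_one, ← he]
      exact Nat.mul_le_mul (Subgroup.card_le_of_le hle) (hidx.trans hW.le)
    rw [← pow_add] at h3
    have := (Nat.pow_le_pow_iff_right hpp.one_lt).1 h3
    rw [he, show e = 4 by omega]
  refine ⟨hc, h21, hcom, fun g hg k hk => ?_⟩
  obtain ⟨s, hs, hs'⟩ : ∃ s ∈ K X 1, s ∉ (⊤ : Subgroup X).lowerCentralSeries 1 := by
    by_contra! hall
    have h1 := Subgroup.card_le_of_le (show K X 1 ≤ (⊤ : Subgroup X).lowerCentralSeries 1 from hall)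
    rw [hc, h.cardL le_rfl] at h1
    exact absurd ((Nat.pow_le_pow_iff_right hpp.one_lt).1 h1) (by norm_num)
  obtain ⟨hd, -, -⟩ := decomp hX (h.L1_le_K 1) (by rw [hc, h.cardL le_rfl]; ring) hs hs'
  obtain ⟨i, l, hl, rfl⟩ := hd g hg
  obtain ⟨j, l', hl', rfl⟩ := hd k hk
  refine comm_mem_of_commute_mk ?_
  rw [QuotientGroup.mk_mul, QuotientGroup.mk_mul, QuotientGroup.mk_zpow, QuotientGroup.mk_zpow]
  refine Commute.mul_left (Commute.mul_right (Commute.zpow_zpow (Commute.refl _) i j)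
    ((commute_of_conj_mk (mem_K.1 hs l' hl')).zpow_left i))
    (Commute.mul_right ((commute_of_conj_mk (mem_K.1 hs l hl)).symm.zpow_right j)
      (commute_of_conj_mk (L_comm (i := 1) (j := 1) hl hl')))

theorem lcs_one_abelian (h : MCl p 5 X) {a b : X} (ha : a ∈ (⊤ : Subgroup X).lowerCentralSeries 1)
    (hb : b ∈ (⊤ : Subgroup X).lowerCentralSeries 1) : Commute a b := by
  obtain ⟨t, ht, ht'⟩ := h.ne_step (i := 1) le_rfl (by norm_num)
  obtain ⟨i, d, hd, rfl⟩ := h.decomp le_rfl ht ht' ha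
  obtain ⟨j, e, he, rfl⟩ := h.decomp le_rfl ht ht' hb
  have hc : ∀ {u v : X}, u ∈ (⊤ : Subgroup X).lowerCentralSeries 1 →
      v ∈ (⊤ : Subgroup X).lowerCentralSeries 2 → Commute u v := fun hu hv =>
    commutatorElement_eq_one_iff_mul_comm.1 (lcs_four h (L_comm hu hv) (by norm_num))
  exact Commute.mul_left (Commute.mul_right (Commute.zpow_zpow (Commute.refl t) i j)
    (hc (zpow_mem ht i) he)) (Commute.mul_right (hc (zpow_mem ht j) hd).symm
      (hc (L_anti (by norm_num) hd) he))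

/-- Outside `K 1`, commutation is exact on the layers and only `L 3` is fixed in `L 1`. -/
theorem outside (h : MCl p 5 X) (hp3 : 3 ≤ p) {y : X} (hy : y ∉ K X 1) :
    (∀ v ∈ (⊤ : Subgroup X).lowerCentralSeries 1, v ∉ (⊤ : Subgroup X).lowerCentralSeries 2 →
        ⁅y, v⁆ ∉ (⊤ : Subgroup X).lowerCentralSeries 3) ∧
      (∀ v ∈ (⊤ : Subgroup X).lowerCentralSeries 2, v ∉ (⊤ : Subgroup X).lowerCentralSeries 3 →
        ⁅y, v⁆ ≠ 1) ∧
      (∀ v ∈ (⊤ : Subgroup X).lowerCentralSeries 1, Commute y v →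
        v ∈ (⊤ : Subgroup X).lowerCentralSeries 3) ∧
      y ^ p ∈ (⊤ : Subgroup X).lowerCentralSeries 3 := by
  obtain ⟨-, h21, -, -⟩ := k_facts h hp3
  have e1 : ∀ v ∈ (⊤ : Subgroup X).lowerCentralSeries 1, v ∉ (⊤ : Subgroup X).lowerCentralSeries 2 →
      ⁅y, v⁆ ∉ (⊤ : Subgroup X).lowerCentralSeries 3 := fun v hv hv' hc =>
    hy (h.mem_K_of_one le_rfl hv hv' hc)
  have e2 : ∀ v ∈ (⊤ : Subgroup X).lowerCentralSeries 2, v ∉ (⊤ : Subgroup X).lowerCentralSeries 3 →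
      ⁅y, v⁆ ≠ 1 := fun v hv hv' hc =>
    hy (h21 ▸ h.mem_K_of_one (i := 2) (by norm_num) hv hv' (hc ▸ one_mem _))
  have e3 : ∀ v ∈ (⊤ : Subgroup X).lowerCentralSeries 1, Commute y v →
      v ∈ (⊤ : Subgroup X).lowerCentralSeries 3 := by
    intro v hv hc
    have hc' : ⁅y, v⁆ = 1 := commutatorElement_eq_one_iff_mul_comm.2 hc.eq
    by_contra h3
    refine e2 v ?_ h3 hc'
    by_contra h2
    exact e1 v hv h2 (hc' ▸ one_mem _)
  refine ⟨e1, e2, e3, e3 _ ?_ (Commute.self_pow y p)⟩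
  exact Cfsg.Agent.MaxClass.PowMax.pow_L1 h.cardX h.three h.cl y

/-- An element outside `K 1` generates with `K 1`; commutators into the layers. -/
theorem first_layer (h : MCl p 5 X) (hp3 : 3 ≤ p) {y s : X} (hy : y ∉ K X 1) (hs : s ∈ K X 1)
    (hs' : s ∉ (⊤ : Subgroup X).lowerCentralSeries 1) :
    ⁅y, s⁆ ∉ (⊤ : Subgroup X).lowerCentralSeries 2 := by
  obtain ⟨hc, -, -, -⟩ := k_facts h hp3
  have hX := h.pgrp
  intro hmem
  obtain ⟨hdS, -, -⟩ := decomp hX (le_top : K X 1 ≤ ⊤) (by rw [card_top, h.cardX, hc]; ring)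
    (Subgroup.mem_top y) hy
  obtain ⟨hdK, -, -⟩ := decomp hX (h.L1_le_K 1) (by rw [hc, h.cardL le_rfl]; ring) hs hs'
  set N := (⊤ : Subgroup X).lowerCentralSeries 2
  have hcl : ∀ a b : X, Commute (a : X ⧸ N) (b : X ⧸ N) := by
    have hz : ∀ (g : X), ∀ l ∈ (⊤ : Subgroup X).lowerCentralSeries 1, Commute (g : X ⧸ N) (l : X ⧸ N) :=
      fun g l hl => commute_of_conj_mk (L_comm_x hl g)
    intro a b
    obtain ⟨i, a1, ha1, rfl⟩ := hdS a (Subgroup.mem_top a)
    obtain ⟨j, b1, hb1, rfl⟩ := hdS b (Subgroup.mem_top b)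
    obtain ⟨i', l, hl, rfl⟩ := hdK a1 ha1
    obtain ⟨j', l', hl', rfl⟩ := hdK b1 hb1
    simp only [QuotientGroup.mk_mul, QuotientGroup.mk_zpow]
    have hys := commute_of_conj_mk (N := N) hmem
    refine Commute.mul_left (Commute.mul_right (Commute.zpow_zpow (Commute.refl _) i j)
      (Commute.mul_right (hys.zpow_zpow i j') ((hz y l' hl').zpow_left i))) ?_
    refine Commute.mul_left (Commute.mul_right (hys.symm.zpow_zpow i' j)
      (Commute.mul_right (Commute.zpow_zpow (Commute.refl _) i' j') ((hz s l' hl').zpow_left i'))) ?_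
    exact Commute.mul_right ((hz y l hl).symm.zpow_right j)
      (Commute.mul_right ((hz s l hl).symm.zpow_right j') (hz l l' hl'))
  obtain ⟨a, ha, ha'⟩ := h.ne_step (i := 1) le_rfl (by norm_num)
  refine ha' ?_
  have : (⊤ : Subgroup X).lowerCentralSeries 1 ≤ N := by
    show ⁅(⊤ : Subgroup X).lowerCentralSeries 0, (⊤ : Subgroup X)⁆ ≤ N
    rw [commutator_le]
    exact fun u _ v _ => comm_mem_of_commute_mk (hcl u v)
  exact this ha

theorem exists_first (h : MCl p 5 X) (hp3 : 3 ≤ p) :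
    ∃ s ∈ K X 1, s ∉ (⊤ : Subgroup X).lowerCentralSeries 1 := by
  by_contra! hall
  have h1 := Subgroup.card_le_of_le (show K X 1 ≤ (⊤ : Subgroup X).lowerCentralSeries 1 from hall)
  rw [(k_facts h hp3).1, h.cardL le_rfl] at h1
  exact absurd ((Nat.pow_le_pow_iff_right hp.out.one_lt).1 h1) (by norm_num)

/-- Without abelian subgroup of index `p`, `K 1` is not abelian. -/
theorem pair_ne (h : MCl p 5 X) (hp3 : 3 ≤ p) (hNA : NoAb p X) {s v : X} (hs : s ∈ K X 1)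
    (hs' : s ∉ (⊤ : Subgroup X).lowerCentralSeries 1) (hv : v ∈ (⊤ : Subgroup X).lowerCentralSeries 1)
    (hv' : v ∉ (⊤ : Subgroup X).lowerCentralSeries 2) : ¬ Commute s v := by
  intro hc
  obtain ⟨hcard, -, hcom, -⟩ := k_facts h hp3
  refine hNA.false_of_abelian (A := K X 1) (by rw [hcard, h.cardX]; ring)
    (abelian_of_central h.pgrp (h.L1_le_K 1) (by rw [hcard, h.cardL le_rfl]; ring) fun l hl a ha => ?_)
  obtain ⟨hd, -, -⟩ := decomp h.pgrp (h.L1_le_K 1) (by rw [hcard, h.cardL le_rfl]; ring) hs hs'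
  obtain ⟨i, l', hl', rfl⟩ := hd a ha
  obtain ⟨j, e, he, rfl⟩ := h.decomp le_rfl hv hv' hl
  refine Commute.mul_right (Commute.zpow_right ?_ i) (lcs_one_abelian h hl hl')
  exact ((hc.zpow_right j).mul_right (hcom s hs e he)).symm

omit hp in
theorem apply_lcs_iff (α : MulAut X) (i : ℕ) (g : X) :
    α g ∈ (⊤ : Subgroup X).lowerCentralSeries i ↔ g ∈ (⊤ : Subgroup X).lowerCentralSeries i := by
  have key : ∀ (β : MulAut X) (z : X), z ∈ (⊤ : Subgroup X).lowerCentralSeries i →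
      β z ∈ (⊤ : Subgroup X).lowerCentralSeries i := by
    intro β z hz
    have h1 := Subgroup.map_lowerCentralSeries (⊤ : Subgroup X) β.toMonoidHom (n := i)
    rw [Subgroup.map_top_of_surjective _ β.surjective] at h1
    exact h1 ▸ mem_map_of_mem _ hz
  refine ⟨fun hg => ?_, key α g⟩
  have := key α⁻¹ _ hg
  simpa [MulAut.inv_apply] using this

omit hp in
theorem apply_K_iff (α : MulAut X) (i : ℕ) (g : X) : α g ∈ K X i ↔ g ∈ K X i := by
  simp only [mem_K]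
  constructor
  · intro hg a ha
    rw [← apply_lcs_iff α, map_commutatorElement]
    exact hg _ ((apply_lcs_iff α i a).2 ha)
  · intro hg a ha
    obtain ⟨a, rfl⟩ := α.surjective a
    rw [← map_commutatorElement, apply_lcs_iff]
    exact hg a ((apply_lcs_iff α i a).1 ha)

/-- The scalars of an automorphism. -/
theorem scalars (h : MCl p 5 X) (hp3 : 3 ≤ p) (hNA : NoAb p X) (α : MulAut X) {y : X} (hy : y ∉ K X 1) :
    ∃ d : ℤ, ¬ (p : ℤ) ∣ d ∧ (y ^ d)⁻¹ * α y ∈ K X 1 ∧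
      (∀ u ∈ K X 1, (u ^ (d * d))⁻¹ * α u ∈ (⊤ : Subgroup X).lowerCentralSeries 1) ∧
      ∀ z ∈ (⊤ : Subgroup X).lowerCentralSeries 3, α z = z ^ (d * d * d * d * d) := by
  have hpp := hp.out
  have hpi := Nat.prime_iff_prime_int.1 hpp
  have hX := h.pgrp
  obtain ⟨hc, -, hcom, hKK⟩ := k_facts h hp3
  obtain ⟨e1, e2, -, -⟩ := outside h hp3 hy
  obtain ⟨hdS, hpS, -⟩ := decomp hX (le_top : K X 1 ≤ ⊤) (by rw [card_top, h.cardX, hc]; ring)
    (Subgroup.mem_top y) hy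
  obtain ⟨d, g, hg, hαy⟩ := hdS (α y) (Subgroup.mem_top _)
  have hd : ¬ (p : ℤ) ∣ d := fun hdd => by
    refine hy ((apply_K_iff α 1 y).1 ?_)
    rw [hαy]
    exact mul_mem ((hpS d).2 hdd) hg
  obtain ⟨s1, hs, hs'⟩ := exists_first h hp3
  obtain ⟨hdK, hpK, -⟩ := decomp hX (h.L1_le_K 1) (by rw [hc, h.cardL le_rfl]; ring) hs hs'
  obtain ⟨μ, g1, hg1, hαs⟩ := hdK (α s1) ((apply_K_iff α 1 s1).2 hs)
  obtain ⟨s2, hs2d⟩ : ∃ z, z = ⁅y, s1⁆ := ⟨_, rfl⟩
  obtain ⟨s3, hs3d⟩ : ∃ z, z = ⁅y, s2⁆ := ⟨_, rfl⟩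
  obtain ⟨s4, hs4d⟩ : ∃ z, z = ⁅y, s3⁆ := ⟨_, rfl⟩
  have m2 : s2 ∈ (⊤ : Subgroup X).lowerCentralSeries 1 := hs2d ▸ L_comm (i := 0) (j := 0) (Subgroup.mem_top y) (Subgroup.mem_top s1)
  have n2 : s2 ∉ (⊤ : Subgroup X).lowerCentralSeries 2 := hs2d ▸ first_layer h hp3 hy hs hs'
  have m3 : s3 ∈ (⊤ : Subgroup X).lowerCentralSeries 2 := hs3d ▸ L_comm_x m2 y
  have n3 : s3 ∉ (⊤ : Subgroup X).lowerCentralSeries 3 := hs3d ▸ e1 s2 m2 n2
  have m4 : s4 ∈ (⊤ : Subgroup X).lowerCentralSeries 3 := hs4d ▸ L_comm_x m3 y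
  have n4 : s4 ≠ 1 := hs4d ▸ e2 s3 m3 n3
  -- the images of `s2`, `s3`, `s4`
  obtain ⟨g2, hg2, hα2⟩ : ∃ g2 ∈ (⊤ : Subgroup X).lowerCentralSeries 2, α s2 = s2 ^ (d * μ) * g2 := by
    refine ⟨(s2 ^ (d * μ))⁻¹ * α s2, QuotientGroup.eq.1 ?_, (mul_inv_cancel_left _ _).symm⟩
    set π := QuotientGroup.mk' ((⊤ : Subgroup X).lowerCentralSeries 2)
    show π (s2 ^ (d * μ)) = π (α s2)
    rw [hs2d, map_commutatorElement α, hαy, hαs, map_commutatorElement π, map_mul, map_mul, map_zpow,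
      map_zpow, map_zpow, comm_mul_mul, comm_zpow (z := π ⁅y, s1⁆) (map_commutatorElement π y s1).symm]
    · exact commute_of_conj_mk (L_comm_x (hs2d ▸ m2) y)
    · exact commute_of_conj_mk (L_comm_x (hs2d ▸ m2) s1)
    · rw [← map_zpow, ← map_mul]
      exact commute_of_conj_mk (L_anti (by norm_num) (hKK g hg _ (mul_mem (zpow_mem hs μ) (h.L1_le_K 1 hg1))))
    · exact (commute_of_conj_mk (L_comm_x hg1 y)).zpow_left d
  obtain ⟨g3, hg3, hα3⟩ : ∃ g3 ∈ (⊤ : Subgroup X).lowerCentralSeries 3, α s3 = s3 ^ (d * (d * μ)) * g3 := by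
    refine ⟨(s3 ^ (d * (d * μ)))⁻¹ * α s3, QuotientGroup.eq.1 ?_, (mul_inv_cancel_left _ _).symm⟩
    set π := QuotientGroup.mk' ((⊤ : Subgroup X).lowerCentralSeries 3)
    show π (s3 ^ (d * (d * μ))) = π (α s3)
    rw [hs3d, map_commutatorElement α, hαy, hα2, map_commutatorElement π, map_mul, map_mul, map_zpow,
      map_zpow, map_zpow, comm_mul_mul, comm_zpow (z := π ⁅y, s2⁆) (map_commutatorElement π y s2).symm]
    · exact commute_of_conj_mk (L_comm_x (hs3d ▸ m3) y)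
    · exact commute_of_conj_mk (L_comm_x (hs3d ▸ m3) s2)
    · rw [← map_zpow, ← map_mul]
      exact commute_of_conj_mk (hKK g hg _ (h.L1_le_K 1 (mul_mem (zpow_mem m2 _) (L_anti (by norm_num) hg2))))
    · exact (commute_of_conj_mk (L_comm_x hg2 y)).zpow_left d
  have hα4 : α s4 = s4 ^ (d * (d * (d * μ))) := by
    rw [hs4d, map_commutatorElement α, hαy, hα3, comm_mul_mul, comm_zpow (z := ⁅y, s3⁆) rfl]
    · exact lcs_three_central h (hs4d ▸ m4) y
    · exact lcs_three_central h (hs4d ▸ m4) s3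
    · exact hcom g hg _ (mul_mem (zpow_mem m3 _) (L_anti (by norm_num) hg3))
    · exact (lcs_three_central h hg3 y).zpow_left d
  -- the commutator of `s1` and `s2`
  obtain ⟨z, hzd⟩ : ∃ z, z = ⁅s1, s2⁆ := ⟨_, rfl⟩
  have mz : z ∈ (⊤ : Subgroup X).lowerCentralSeries 3 := hzd ▸ hKK s1 hs s2 (h.L1_le_K 1 m2)
  have nz : z ≠ 1 := fun e => pair_ne h hp3 hNA hs hs' m2 n2
    (commutatorElement_eq_one_iff_mul_comm.1 (hzd ▸ e))
  have hαz : α z = z ^ (μ * (d * μ)) := by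
    rw [hzd, map_commutatorElement α, hαs, hα2, comm_mul_mul, comm_zpow (z := ⁅s1, s2⁆) rfl]
    · exact lcs_three_central h (hzd ▸ mz) s1
    · exact lcs_three_central h (hzd ▸ mz) s2
    · exact lcs_one_abelian h hg1 (mul_mem (zpow_mem m2 _) (L_anti (by norm_num) hg2))
    · exact hcom _ (zpow_mem hs μ) g2 hg2
  -- all of `L 3`
  have h4c : Nat.card ↥((⊤ : Subgroup X).lowerCentralSeries 3) = p := by
    rw [h.cardL (by norm_num), show 5 - 1 - 3 = 1 by rfl, pow_one]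
  have hall : ∀ u ∈ (⊤ : Subgroup X).lowerCentralSeries 3, ∃ i : ℤ, u = s4 ^ i := fun u hu => by
    obtain ⟨i, hi⟩ := mem_zpowers_iff.1 (mem_zpowers_of_prime_card h4c
      (g := (⟨s4, m4⟩ : ↥((⊤ : Subgroup X).lowerCentralSeries 3))) (g' := ⟨u, hu⟩)
      (fun e => n4 (congrArg Subtype.val e)))
    exact ⟨i, by
      have e := congrArg Subtype.val hi
      rw [SubgroupClass.coe_zpow] at e
      exact e.symm⟩
  have hact : ∀ u ∈ (⊤ : Subgroup X).lowerCentralSeries 3, α u = u ^ (d * (d * (d * μ))) := fun u hu => by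
    obtain ⟨i, rfl⟩ := hall u hu
    rw [map_zpow, hα4, ← zpow_mul, ← zpow_mul, mul_comm]
  have hzo : orderOf z = p := by
    refine orderOf_eq_prime ?_ nz
    have h1 : (⟨z, mz⟩ : ↥((⊤ : Subgroup X).lowerCentralSeries 3)) ^
        Nat.card ↥((⊤ : Subgroup X).lowerCentralSeries 3) = 1 := pow_card_eq_one'
    rw [h4c] at h1
    have e := congrArg Subtype.val h1
    rw [SubmonoidClass.coe_pow, OneMemClass.coe_one] at e
    exact e
  have hμd : (p : ℤ) ∣ μ - d * d := by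
    have h1 : z ^ (μ * (d * μ)) = z ^ (d * (d * (d * μ))) := hαz.symm.trans (hact z mz)
    have h2 : (p : ℤ) ∣ μ * (d * μ) - d * (d * (d * μ)) := by
      rw [← hzo, orderOf_dvd_iff_zpow_eq_one, zpow_sub, h1, mul_inv_cancel]
    rw [show μ * (d * μ) - d * (d * (d * μ)) = d * (μ * (μ - d * d)) by ring] at h2
    refine ((hpi.dvd_or_dvd ((hpi.dvd_or_dvd h2).resolve_left hd))).resolve_left fun hμ => hs' ?_
    refine (apply_lcs_iff α 1 s1).1 ?_
    rw [hαs]
    exact mul_mem ((hpK μ).2 hμ) hg1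
  refine ⟨d, hd, by rw [hαy, inv_mul_cancel_left]; exact hg, fun u hu => ?_, fun u hu => ?_⟩
  · obtain ⟨i, l, hl, rfl⟩ := hdK u hu
    haveI := (inferInstance : ((⊤ : Subgroup X).lowerCentralSeries 1).Normal)
    rw [← QuotientGroup.eq, map_mul, map_zpow, hαs]
    have hg1' : ((g1 : X) : X ⧸ (⊤ : Subgroup X).lowerCentralSeries 1) = 1 :=
      (QuotientGroup.eq_one_iff g1).2 hg1
    have hl' : ((l : X) : X ⧸ (⊤ : Subgroup X).lowerCentralSeries 1) = 1 :=
      (QuotientGroup.eq_one_iff l).2 hl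
    have hαl : ((α l : X) : X ⧸ (⊤ : Subgroup X).lowerCentralSeries 1) = 1 :=
      (QuotientGroup.eq_one_iff _).2 ((apply_lcs_iff α 1 l).2 hl)
    simp only [QuotientGroup.mk_mul, QuotientGroup.mk_zpow, hg1', hl', hαl, mul_one, ← zpow_mul]
    rw [← mul_inv_eq_one, ← zpow_neg, ← zpow_add, ← QuotientGroup.mk_zpow, QuotientGroup.eq_one_iff]
    refine (hpK _).2 ?_
    rw [show i * (d * d) + -(μ * i) = -(i * (μ - d * d)) by ring, dvd_neg]
    exact hμd.mul_left i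
  · rw [hact u hu]
    obtain ⟨r, hr⟩ := hμd
    have hup : u ^ p = 1 := by
      have h1 : (⟨u, hu⟩ : ↥((⊤ : Subgroup X).lowerCentralSeries 3)) ^
          Nat.card ↥((⊤ : Subgroup X).lowerCentralSeries 3) = 1 := pow_card_eq_one'
      rw [h4c] at h1
      have e := congrArg Subtype.val h1
      rw [SubmonoidClass.coe_pow, OneMemClass.coe_one] at e
      exact e
    rw [show d * (d * (d * μ)) = (p : ℤ) * (d * d * d * r) + d * d * d * d * d by
      rw [show μ = (p : ℤ) * r + d * d by omega]; ring, zpow_add, zpow_mul, zpow_natCast, hup, one_zpow,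
      one_mul]

end Cfsg.Agent.FusFive
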