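import Cfsg.Agent.FusSys.Yoshida
import Mathlib.GroupTheory.Perm.Sign

/-!
A Sylow `3`-subgroup of `Sym(9)` has a non-trivial triple commutator.
-/

set_option autoImplicit false

namespace Cfsg.Agent.FusFive

open Cfsg Cfsg.Agent.FusSys Subgroup Equiv
open scoped commutatorElement

/-- The cycle on the first block. -/
def wa : Perm (Fin 9) := swap 0 1 * swap 1 2

/-- The cycle on the second block. -/
def wb : Perm (Fin 9) := swap 3 4 * swap 4 5

/-- The cycle on the third block. -/
def wc : Perm (Fin 9) := swap 6 7 * swap 7 8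

/-- The cycle on the blocks. -/
def wx : Perm (Fin 9) := (swap 0 3 * swap 3 6) * (swap 1 4 * swap 4 7) * (swap 2 5 * swap 5 8)

theorem wa_three : wa ^ 3 = 1 := by decide +kernel
theorem wb_three : wb ^ 3 = 1 := by decide +kernel
theorem wc_three : wc ^ 3 = 1 := by decide +kernel
theorem wx_three : wx ^ 3 = 1 := by decide +kernel
theorem wab : wa * wb = wb * wa := by decide +kernel
theorem wac : wa * wc = wc * wa := by decide +kernel
theorem wbc : wb * wc = wc * wb := by decide +kernel
theorem wxa : wx * wa * wx⁻¹ = wb ∨ wx * wa * wx⁻¹ = wc := by decide +kernel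
theorem wxb : wx * wb * wx⁻¹ = wc ∨ wx * wb * wx⁻¹ = wa := by decide +kernel
theorem wxc : wx * wc * wx⁻¹ = wa ∨ wx * wc * wx⁻¹ = wb := by decide +kernel
theorem wtriple : ⁅⁅wx, wa⁆, wx⁆ ≠ 1 := by decide +kernel

theorem isPGroup_zpowers {G : Type*} [Group G] {g : G} (h : g ^ 3 = 1) : IsPGroup 3 (zpowers g) := by
  intro y
  obtain ⟨i, hi⟩ := mem_zpowers_iff.1 y.2
  refine ⟨1, Subtype.ext ?_⟩
  rw [pow_one, SubmonoidClass.coe_pow, OneMemClass.coe_one, ← hi, ← zpow_natCast, ← zpow_mul, mul_comm,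
    zpow_mul, zpow_natCast, h, one_zpow]

theorem commute_le_normalizer {G : Type*} [Group G] {g : G} {K : Subgroup G}
    (h : ∀ k ∈ K, Commute g k) : zpowers g ≤ Subgroup.normalizer (K : Set G) := by
  refine zpowers_le.2 (Subgroup.mem_normalizer_iff.2 fun y => ⟨fun hy => ?_, fun hy => ?_⟩)
  · rw [(h y hy).eq, mul_inv_cancel_right]; exact hy
  · have h1 := (h _ hy).eq
    rw [show g * y * g⁻¹ = g * (y * g⁻¹) by group] at h1 hy
    have : g * y * g⁻¹ = y := by
      have h2 : g * y = y * g := by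
        calc g * y = g⁻¹ * (g * (g * (y * g⁻¹))) * g := by group
          _ = g⁻¹ * (g * (y * g⁻¹) * g) * g := by rw [h1]
          _ = _ := by group
      rw [h2, mul_inv_cancel_right]
    rw [← mul_assoc, this] at hy
    exact hy

theorem exists_triple (W : Sylow 3 (Perm (Fin 9))) :
    ∃ a b c : (W : Subgroup (Perm (Fin 9))), ⁅⁅a, b⁆, c⁆ ≠ 1 := by
  haveI : Fact (Nat.Prime 3) := ⟨Nat.prime_three⟩
  set A := zpowers wa ⊔ zpowers wb ⊔ zpowers wc with hA
  have h1 : IsPGroup 3 ↥(zpowers wa ⊔ zpowers wb) :=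
    (isPGroup_zpowers wa_three).to_sup_of_normal_right' (isPGroup_zpowers wb_three)
      (commute_le_normalizer fun k hk => by
        obtain ⟨i, rfl⟩ := mem_zpowers_iff.1 hk
        exact (show Commute wa wb from wab).zpow_right i)
  have h2 : IsPGroup 3 A :=
    h1.to_sup_of_normal_right' (isPGroup_zpowers wc_three) (sup_le
      (commute_le_normalizer fun k hk => by
        obtain ⟨i, rfl⟩ := mem_zpowers_iff.1 hk
        exact (show Commute wa wc from wac).zpow_right i)
      (commute_le_normalizer fun k hk => by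
        obtain ⟨i, rfl⟩ := mem_zpowers_iff.1 hk
        exact (show Commute wb wc from wbc).zpow_right i))
  have hwa : wa ∈ A := mem_sup_left (mem_sup_left (mem_zpowers _))
  have hwb : wb ∈ A := mem_sup_left (mem_sup_right (mem_zpowers _))
  have hwc : wc ∈ A := mem_sup_right (mem_zpowers _)
  have hxA : zpowers wx ≤ Subgroup.normalizer (A : Set (Perm (Fin 9))) := by
    refine zpowers_le.2 ?_
    have hle : A ≤ A.comap (MulAut.conj wx).toMonoidHom := by
      refine sup_le (sup_le ?_ ?_) ?_ <;> refine zpowers_le.2 ?_ <;>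
        simp only [mem_comap, MulEquiv.coe_toMonoidHom, MulAut.conj_apply]
      · rcases wxa with h | h <;> rw [h] <;> assumption
      · rcases wxb with h | h <;> rw [h] <;> assumption
      · rcases wxc with h | h <;> rw [h] <;> assumption
    refine Subgroup.mem_normalizer_fintype (S := (A : Set (Perm (Fin 9)))) fun a ha => ?_
    exact hle ha
  have h3 : IsPGroup 3 ↥(zpowers wx ⊔ A) := (isPGroup_zpowers wx_three).to_sup_of_normal_right' h2 hxA
  obtain ⟨W', hW'⟩ := h3.exists_le_sylow
  have e : (W' : Subgroup (Perm (Fin 9))) ≃* (W : Subgroup (Perm (Fin 9))) := W'.equiv W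
  refine ⟨e ⟨wx, hW' (mem_sup_left (mem_zpowers _))⟩, e ⟨wa, hW' (mem_sup_right hwa)⟩,
    e ⟨wx, hW' (mem_sup_left (mem_zpowers _))⟩, fun h => wtriple ?_⟩
  rw [← map_commutatorElement, ← map_commutatorElement] at h
  have h' := congrArg Subtype.val (e.injective (h.trans (map_one e).symm))
  simpa [commutatorElement_def] using h'

/-- A group with all triple commutators trivial modulo a central part of order `3` has no wreath image. -/
theorem not_hasWreathImage {S : Type*} [Group S] [Finite S] (hS : IsPGroup 3 S)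
    (hcard : Nat.card S = 3 ^ 5) {W : Subgroup S} (hW : Nat.card W = 3) (hZ : center S ≤ W)
    (h : ∀ a b c : S, ⁅⁅a, b⁆, c⁆ ∈ W) : ¬ HasWreathImage 3 S := by
  haveI : Fact (Nat.Prime 3) := ⟨Nat.prime_three⟩
  rintro ⟨P, f, hf⟩
  have h1 := f.ker.card_mul_index
  rw [index_ker, MonoidHom.range_eq_top.2 hf, card_top, card_sylow_perm_sq, hcard] at h1
  have hk : Nat.card f.ker = 3 := by omega
  have hne : f.ker ≠ ⊥ := fun e => by rw [e, card_bot] at hk; omega
  haveI := hS.isNilpotent
  obtain ⟨z, ⟨hz, hzc⟩, hz1⟩ := (bot_or_exists_ne_one (f.ker ⊓ center S)).resolve_left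
    (Cfsg.Agent.Core.inf_center_ne_bot hne)
  have hzp : zpowers z = W := by
    refine eq_of_le_of_card_ge (zpowers_le.2 (hZ hzc)) ?_
    rw [hW, Nat.card_zpowers]
    have h2 : orderOf z ∣ 3 := hW ▸ (by
      have := orderOf_dvd_natCard (⟨z, hZ hzc⟩ : W)
      rwa [← Subgroup.orderOf_coe] at this)
    rcases (Nat.dvd_prime Nat.prime_three).1 h2 with h3 | h3
    · exact absurd (orderOf_eq_one_iff.1 h3) hz1
    · exact h3.ge
  have hWk : W ≤ f.ker := hzp ▸ zpowers_le.2 hz
  obtain ⟨a, b, c, habc⟩ := exists_triple P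
  obtain ⟨a, rfl⟩ := hf a
  obtain ⟨b, rfl⟩ := hf b
  obtain ⟨c, rfl⟩ := hf c
  refine habc ?_
  rw [← map_commutatorElement, ← map_commutatorElement]
  exact hWk (h a b c)

end Cfsg.Agent.FusFive
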