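import Cfsg.Agent.FusFive.CubeSetup
import Cfsg.Agent.FusFive.Wreath

/-!
No essential subgroup is elementary abelian of order `p ^ 3` when `S` has order `p ^ 5`, has no
abelian subgroup of index `p` and is its own hyperfocal subgroup.
-/

set_option autoImplicit false

namespace Cfsg.Agent.FusFive

open Cfsg Cfsg.FusionSystem Cfsg.Agent.FusSys Subgroup
open scoped commutatorElement

universe u

variable {Ω : Type u} [Group Ω] {S : Subgroup Ω} {F : FusionSystem S} {p : ℕ} [hp : Fact p.Prime]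
variable [Finite S]

/-- The elementary abelian essential subgroups of order `p ^ 3` are excluded. -/
theorem cube_false (hS : IsPGroup p S) (hF : F.IsSaturated p) (hp2 : p ≠ 2)
    (hcard : Nat.card S = p ^ 5) (hNA : NoAb p S) (hhyp : F.hyperfocalSubgroup p = S)
    {E : Subgroup Ω} (hE : F.IsEssential p E) (hab : ∀ a ∈ E, ∀ b ∈ E, a * b = b * a)
    (hexp : ∀ a ∈ E, a ^ p = 1) (hEc : Nat.card E = p ^ 3) : False := by
  classical
  have hpp := hp.out
  have hpi := Nat.prime_iff_prime_int.1 hpp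
  obtain ⟨W, D, J, N, x, n, w, c, s, h, hD5⟩ := cube_data hS hF hp2 hcard hE hab hexp hEc
  haveI := h.normW
  haveI := h.normD
  haveI := h.normJ
  have hWN : W ≤ N := h.W_le.trans (h.D_le.trans h.J_le)
  have hDN : D ≤ N := h.D_le.trans h.J_le
  -- `W` is central
  have hWc : ∀ y ∈ W, ∀ g : S, Commute g y := by
    haveI := hS.isNilpotent
    have hne : W ≠ ⊥ := fun e => by
      have := h.cardW
      rw [e, card_bot] at this
      exact hpp.one_lt.ne this
    obtain ⟨z, ⟨hz, hzc⟩, hz1⟩ := (bot_or_exists_ne_one (W ⊓ center S)).resolve_left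
      (Cfsg.Agent.Core.inf_center_ne_bot hne)
    intro y hy g
    obtain ⟨i, hi⟩ := mem_zpowers_iff.1 (mem_zpowers_of_prime_card h.cardW
      (g := (⟨z, hz⟩ : W)) (g' := ⟨y, hy⟩) (fun e => hz1 (congrArg Subtype.val e)))
    have e : z ^ i = y := by simpa using congrArg Subtype.val hi
    exact e ▸ (show Commute g z from mem_center_iff.1 hzc g).zpow_right i
  obtain ⟨z0, hz0d⟩ : ∃ z, z = ⁅x, n⁆ := ⟨_, rfl⟩
  have hz0 : z0 ∈ W := hz0d ▸ h.JW x n h.n_mem
  have hz01 : z0 ≠ 1 := fun e => h.xn (commutatorElement_eq_one_iff_mul_comm.1 (hz0d ▸ e))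
  have hgenW : ∀ y ∈ W, ∃ i : ℤ, y = z0 ^ i := fun y hy => by
    obtain ⟨i, hi⟩ := mem_zpowers_iff.1 (mem_zpowers_of_prime_card h.cardW
      (g := (⟨z0, hz0⟩ : W)) (g' := ⟨y, hy⟩) (fun e => hz01 (congrArg Subtype.val e)))
    exact ⟨i, by simpa using (congrArg Subtype.val hi).symm⟩
  have hz0o : orderOf z0 = p := by
    refine orderOf_eq_prime ?_ hz01
    have h1 : (⟨z0, hz0⟩ : W) ^ Nat.card W = 1 := pow_card_eq_one'
    rw [h.cardW] at h1
    simpa using congrArg Subtype.val h1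
  have hdvd : ∀ {i j : ℤ}, z0 ^ i = z0 ^ j → (p : ℤ) ∣ i - j := fun {i j} e => by
    rw [← hz0o, orderOf_dvd_iff_zpow_eq_one, zpow_sub, e, mul_inv_cancel]
  -- the element `k` outside `N` centralising `n`
  obtain ⟨u, hu⟩ := hgenW _ (h.JW s n h.n_mem)
  obtain ⟨k, hk⟩ : ∃ k, k = s * x ^ (-u) := ⟨_, rfl⟩
  have hkN : k ∉ N := fun hkN => h.s_not (by
    have := N.mul_mem hkN (N.inv_mem (N.zpow_mem h.x_mem (-u)))
    rwa [hk, mul_inv_cancel_right] at this)
  have hkn : Commute k n := by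
    refine commutatorElement_eq_one_iff_mul_comm.1 ?_
    have h1 : ⁅x ^ (-u), n ^ (1 : ℤ)⁆ = z0 ^ (-u * 1) := comm_zpow hz0d.symm (hWc z0 hz0 x) (hWc z0 hz0 n) _ _
    rw [zpow_one, mul_one] at h1
    calc ⁅k, n⁆ = s * ⁅x ^ (-u), n⁆ * s⁻¹ * ⁅s, n⁆ := by
          rw [hk]; simp only [commutatorElement_def]; group
      _ = z0 ^ (-u) * z0 ^ u := by
          rw [h1, ((hWc z0 hz0 s).zpow_right (-u)).eq, mul_inv_cancel_right, hu]
      _ = 1 := by rw [zpow_neg, inv_mul_cancel]
  have hxk : ⁅x, k⁆ = n := by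
    rw [← h.xs, hk]
    simpa using comm_mul_mul (a := x) (g := 1) (b := s) (h := x ^ (-u)) (Commute.one_left _)
      (Commute.self_zpow x (-u))
  -- the centralizer of `n`
  set H := centralizer ({n} : Set S) with hH
  have hHmem : ∀ {y : S}, y ∈ H ↔ Commute y n := fun {y} => mem_centralizer_singleton_iff
  have hHc : Nat.card H = p ^ 4 := by
    have h1 := centralizer_card hS h.cardW (fun g => h.JW g n h.n_mem) h.xn
    rw [hcard, pow_succ' p 4] at h1
    exact Nat.eq_of_mul_eq_mul_left hpp.pos h1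
  obtain ⟨hdJ, hpJ, -⟩ := decomp hS h.D_le (by rw [h.cardJ, h.cardD, pow_succ']) h.n_mem h.n_not
  obtain ⟨hdD, hpD, -⟩ := decomp hS h.W_le (by rw [h.cardD, h.cardW, pow_two]) h.c_mem h.c_not
  have hJab : ∀ a ∈ J, ∀ b ∈ J, Commute a b := by
    intro a ha b hb
    obtain ⟨i, d, hd, rfl⟩ := hdJ a ha
    obtain ⟨i', d', hd', rfl⟩ := hdJ b hb
    exact ((Commute.zpow_zpow (Commute.refl n) i i').mul_right
      (h.D_central _ (h.J_le (J.zpow_mem h.n_mem i)) d' hd')).mul_left
        (h.D_central _ (h.J_le (J.mul_mem (J.zpow_mem h.n_mem i') (h.D_le hd'))) d hd).symm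
  have hJH : J ≤ H := fun j hj => hHmem.2 (hJab j hj n h.n_mem)
  have hkH : k ∈ H := hHmem.2 hkn
  have hkJ : k ∉ J := fun hkJ => hkN (h.J_le hkJ)
  obtain ⟨hdH, hpH, -⟩ := decomp hS hJH (by rw [hHc, h.cardJ, pow_succ']) hkH hkJ
  have hHfalse : (∀ d ∈ D, Commute k d) → False := fun hall => by
    refine hNA.false_of_abelian (A := H) (by rw [hHc, hcard, ← pow_succ'])
      (abelian_of_central hS hJH (by rw [hHc, h.cardJ, pow_succ']) fun j hj a ha => ?_)
    obtain ⟨i, j', hj', rfl⟩ := hdH a ha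
    obtain ⟨i', d, hd, rfl⟩ := hdJ j hj
    exact ((hkn.zpow_zpow i i').mul_right ((hall d hd).zpow_left i)).symm.mul_right
      (hJab _ hj j' hj')
  have hp3 : p = 3 := by
    by_contra hne
    refine hHfalse fun d hd => mem_center_iff.1 (hD5 ?_ hd) k
    have := hpp.two_le
    have h4 : p ≠ 4 := fun e => by subst e; norm_num at hpp
    omega
  have hkc : ¬ Commute k c := fun e => hHfalse fun d hd => by
    obtain ⟨i, y, hy, rfl⟩ := hdD d hd
    exact (e.zpow_right i).mul_right (hWc y hy k)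
  -- characterisations of `J` and `W`
  obtain ⟨hdS, hpS, -⟩ := decomp hS (le_top : N ≤ ⊤) (by rw [card_top, hcard, h.cardN, pow_succ'])
    (Subgroup.mem_top k) hkN
  have hxJ : x ∉ J := fun hxJ => h.xn (hJab x hxJ n h.n_mem)
  obtain ⟨hdN, hpN, -⟩ := decomp hS h.J_le (by rw [h.cardN, h.cardJ, pow_succ']) h.x_mem hxJ
  have hJchar : ∀ y : S, (∀ g : S, ⁅g, y⁆ ∈ W) → y ∈ J := by
    intro y hy
    set π := QuotientGroup.mk' D
    have hnc : ∀ g : S, Commute (π g) (π n) := fun g => commute_of_conj_mk (h.W_le (h.JW g n h.n_mem))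
    have hnD : ∀ i : ℤ, (π n) ^ i = 1 → (p : ℤ) ∣ i := fun i hi => by
      rw [← map_zpow] at hi
      exact (hpJ i).1 ((QuotientGroup.eq_one_iff _).1 hi)
    obtain ⟨i, m, hm, rfl⟩ := hdS y (Subgroup.mem_top y)
    have hxm : Commute (π x) (π m) := commute_of_conj_mk (h.W_le (h.NW x h.x_mem m hm))
    have h1 : π ⁅x, k ^ i * m⁆ = 1 := (QuotientGroup.eq_one_iff _).2 (h.W_le (hy x))
    rw [map_commutatorElement, map_mul, map_zpow, show π x = π x ^ (1 : ℤ) * 1 by rw [zpow_one, mul_one],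
      comm_mul_mul (Commute.one_left _) (hxm.zpow_left 1),
      comm_zpow (z := π n) (by rw [← map_commutatorElement, hxk]) (hnc x) (hnc k), one_mul] at h1
    have hkim : k ^ i * m ∈ N := N.mul_mem ((hpS i).2 (hnD i h1)) hm
    obtain ⟨a, j, hj, hja⟩ := hdN _ hkim
    rw [hja] at hy ⊢
    have hjc : ∀ g : S, Commute (π g) (π j) := fun g => commute_of_conj_mk (h.W_le (h.JW g j hj))
    have h2 : π ⁅x ^ a * j, k⁆ = 1 := (QuotientGroup.eq_one_iff _).2 (h.W_le (by
      rw [← commutatorElement_inv]; exact W.inv_mem (hy k)))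
    rw [map_commutatorElement, map_mul, map_zpow, show π k = π k ^ (1 : ℤ) * 1 by rw [zpow_one, mul_one],
      comm_mul_mul (((hjc k).zpow_left 1).mul_left (Commute.one_left _)).symm (Commute.one_right _),
      comm_zpow (z := π n) (by rw [← map_commutatorElement, hxk]) (hnc x) (hnc k), mul_one] at h2
    exact J.mul_mem ((hpN a).2 (hnD a h2)) hj
  have hcenW : center S = W := by
    refine le_antisymm (fun z hz => ?_) fun y hy => mem_center_iff.2 fun g => (hWc y hy g).eq
    obtain ⟨v, y, hy, rfl⟩ := hdD z (h.Z_le hz)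
    refine W.mul_mem ((hpD v).2 ?_) hy
    by_contra hv
    obtain ⟨v', hv'⟩ := ThreeDim.exists_inv (p := p) v hv
    refine hkc ?_
    have h1 : Commute k (c ^ v) := by
      have h2 := (show Commute k (c ^ v * y) from mem_center_iff.1 hz k).mul_right (hWc y⁻¹ (W.inv_mem hy) k)
      rwa [mul_inv_cancel_right] at h2
    have h3 := h1.zpow_right v'
    obtain ⟨r, hr⟩ := hv'
    rwa [← zpow_mul, show v * v' = p * r + 1 by omega, zpow_add, zpow_mul, zpow_natCast, h.cp, one_zpow,
      one_mul, zpow_one] at h3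
  -- the derived subgroup
  let K : Subgroup S := zpowers n ⊔ W
  have hKk : ∀ y ∈ K, Commute k y := fun y hy => by
    obtain ⟨a, ha, b, hb, rfl⟩ := mem_sup_of_normal_right.1 hy
    obtain ⟨i, rfl⟩ := mem_zpowers_iff.1 ha
    exact (hkn.zpow_right i).mul_right (hWc b hb k)
  have hKJ : K ≤ J := sup_le (zpowers_le.2 h.n_mem) (h.W_le.trans h.D_le)
  haveI hKn : K.Normal := ⟨fun y hy g => by
    rw [show g * y * g⁻¹ = ⁅g, y⁆ * y by rw [commutatorElement_def]; group]
    exact K.mul_mem (mem_sup_right (h.JW g y (hKJ hy))) hy⟩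
  have hcK : c ∉ K := fun hc' => hkc (hKk c hc')
  have hcomK : _root_.commutator S ≤ K := by
    rw [_root_.commutator_def, commutator_le]
    intro a _ b _
    refine comm_mem_of_commute_mk ?_
    have hkx : Commute ((k : S) : S ⧸ K) (x : S ⧸ K) := commute_of_conj_mk (by
      rw [← commutatorElement_inv, hxk]; exact K.inv_mem (mem_sup_left (mem_zpowers n)))
    have hkc' : Commute ((k : S) : S ⧸ K) (c : S ⧸ K) :=
      commute_of_conj_mk (mem_sup_right (h.JW k c (h.D_le h.c_mem)))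
    have hxc : Commute ((x : S) : S ⧸ K) (c : S ⧸ K) :=
      commute_of_conj_mk (mem_sup_right (h.NW x h.x_mem c (hDN h.c_mem)))
    have hform : ∀ y : S, ∃ i a v : ℤ, ((y : S) : S ⧸ K) =
        (k : S ⧸ K) ^ i * (x : S ⧸ K) ^ a * (c : S ⧸ K) ^ v := by
      intro y
      obtain ⟨i, m, hm, rfl⟩ := hdS y (Subgroup.mem_top y)
      obtain ⟨a, j, hj, rfl⟩ := hdN m hm
      obtain ⟨q, d, hd, rfl⟩ := hdJ j hj
      obtain ⟨v, y', hy', rfl⟩ := hdD d hd
      refine ⟨i, a, v, ?_⟩
      have h1 : ((n : S) : S ⧸ K) = 1 := (QuotientGroup.eq_one_iff n).2 (mem_sup_left (mem_zpowers n))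
      have h2 : ((y' : S) : S ⧸ K) = 1 := (QuotientGroup.eq_one_iff y').2 (mem_sup_right hy')
      simp only [QuotientGroup.mk_mul, QuotientGroup.mk_zpow, h1, h2, one_zpow, one_mul, mul_one, mul_assoc]
    obtain ⟨i, a', v, ha⟩ := hform a
    obtain ⟨i', b', v', hb⟩ := hform b
    rw [ha, hb]
    refine Commute.mul_left (Commute.mul_left ?_ ?_) ?_
    · exact ((Commute.zpow_zpow (Commute.refl _) i i').mul_right (hkx.zpow_zpow i b')).mul_right
        (hkc'.zpow_zpow i v')
    · exact ((hkx.symm.zpow_zpow a' i').mul_right (Commute.zpow_zpow (Commute.refl _) a' b')).mul_right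
        (hxc.zpow_zpow a' v')
    · exact ((hkc'.symm.zpow_zpow v i').mul_right (hxc.symm.zpow_zpow v b')).mul_right
        (Commute.zpow_zpow (Commute.refl _) v v')
  -- every automorphism fixes `c` modulo `K`
  have hfix : ∀ α : MulAut S, c⁻¹ * α c ∈ K := by
    intro α
    have hcharW : ∀ y, α y ∈ W ↔ y ∈ W := fun y => by
      rw [← hcenW]
      constructor
      · intro hy
        refine mem_center_iff.2 fun g => α.injective ?_
        rw [map_mul, map_mul]
        exact mem_center_iff.1 hy (α g)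
      · intro hy
        refine mem_center_iff.2 fun g => ?_
        obtain ⟨g, rfl⟩ := α.surjective g
        rw [← map_mul, ← map_mul, mem_center_iff.1 hy g]
    have hcharJ : ∀ y, α y ∈ J ↔ y ∈ J := fun y => by
      constructor
      · intro hy
        refine hJchar y fun g => ?_
        rw [← hcharW, map_commutatorElement]
        exact h.JW _ _ hy
      · intro hy
        refine hJchar _ fun g => ?_
        obtain ⟨g, rfl⟩ := α.surjective g
        rw [← map_commutatorElement, hcharW]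
        exact h.JW g y hy
    -- the image of `n`
    have hαnK : α n ∈ K := by
      rw [← hxk, map_commutatorElement]
      exact hcomK (commutator_mem_commutator (Subgroup.mem_top _) (Subgroup.mem_top _))
    obtain ⟨a, ha, w', hw', hn'⟩ := mem_sup_of_normal_right.1 hαnK
    obtain ⟨m, rfl⟩ := mem_zpowers_iff.1 ha
    have hm : ¬ (p : ℤ) ∣ m := fun hd => by
      have h1 : n ^ m ∈ D := (hpJ m).2 hd
      obtain ⟨v, y, hy, hv⟩ := hdD _ h1
      have h2 : (p : ℤ) ∣ v := by
        by_contra hv'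
        obtain ⟨v', r, hr⟩ := ThreeDim.exists_inv (p := p) v hv'
        refine hkc ?_
        have h3 := ((hkn.zpow_right m).mul_right (hWc y⁻¹ (W.inv_mem hy) k)).zpow_right v'
        rwa [hv, mul_inv_cancel_right, ← zpow_mul, show v * v' = p * r + 1 by omega, zpow_add, zpow_mul,
          zpow_natCast, h.cp, one_zpow, one_mul, zpow_one] at h3
      refine h.n_not (h.W_le ((hcharW n).1 ?_))
      rw [← hn', hv]
      exact W.mul_mem (W.mul_mem ((hpD v).2 h2) hy) hw'
    have hcommn : ∀ g : S, Commute g (α n) → Commute g n := by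
      intro g hg
      have h1 : Commute g (n ^ m) := by
        have h2 := hg.mul_right (hWc w'⁻¹ (W.inv_mem hw') g)
        rwa [← hn', mul_inv_cancel_right] at h2
      have hz : ⁅g, n⁆ ∈ W := h.JW g n h.n_mem
      obtain ⟨e, he⟩ := hgenW _ hz
      have h3 := comm_zpow (z := ⁅g, n⁆) rfl (hWc _ hz g) (hWc _ hz n) 1 m
      rw [zpow_one, one_mul, commutatorElement_eq_one_iff_mul_comm.2 h1.eq, he, ← zpow_mul,
        ← zpow_zero z0] at h3
      have h4 := hdvd h3.symm
      rw [sub_zero] at h4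
      refine commutatorElement_eq_one_iff_mul_comm.1 ?_
      obtain ⟨r, rfl⟩ := (hpi.dvd_or_dvd h4).resolve_right hm
      rw [he, zpow_mul, zpow_natCast, ← hz0o, pow_orderOf_eq_one, one_zpow]
    have hαk : α k ∈ H := hHmem.2 (hcommn _ (hkn.map α))
    obtain ⟨σ, j', hj', hk'⟩ := hdH _ hαk
    obtain ⟨hdT, hpT, -⟩ := decomp hS (le_top : H ≤ ⊤) (by rw [card_top, hcard, hHc, pow_succ'])
      (Subgroup.mem_top x) (fun hxH => h.xn (hHmem.1 hxH))
    obtain ⟨d, h0, hh0, hx'⟩ := hdT (α x) (Subgroup.mem_top _)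
    have hd : ¬ (p : ℤ) ∣ d := fun hd => by
      refine h.xn ((commute_map_iff α.injective).1 ?_)
      have h1 : α x ∈ H := by rw [hx']; exact H.mul_mem ((hpT d).2 hd) hh0
      rw [← hn']
      exact ((hHmem.1 h1).zpow_right m).mul_right (hWc w' hw' _)
    have hσ : ¬ (p : ℤ) ∣ σ := fun hd' => by
      refine hkJ ((hcharJ k).1 ?_)
      rw [hk']
      exact J.mul_mem ((hpH σ).2 hd') hj'
    -- `n` goes to `n ^ (d σ)` modulo `W`
    obtain ⟨w1, hw1, hn1⟩ : ∃ w1 ∈ W, α n = n ^ (d * σ) * w1 := by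
      refine ⟨(n ^ (d * σ))⁻¹ * α n, QuotientGroup.eq.1 ?_, (mul_inv_cancel_left _ _).symm⟩
      set π := QuotientGroup.mk' W
      have hJπ : ∀ g : S, ∀ j ∈ J, Commute (π g) (π j) := fun g j hj => commute_of_conj_mk (h.JW g j hj)
      obtain ⟨f, j, hj, hh⟩ := hdH h0 hh0
      show π (n ^ (d * σ)) = π (α n)
      rw [← hxk, map_commutatorElement α, hx', hk', map_commutatorElement π, map_mul, map_mul, map_zpow,
        map_zpow, map_zpow, comm_mul_mul _ ((hJπ x j' hj').zpow_left d),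
        comm_zpow (z := π n) (by rw [← map_commutatorElement, hxk]) (hJπ x n h.n_mem)
          (hJπ k n h.n_mem), hxk]
      rw [hh, map_mul, map_zpow]
      refine Commute.mul_left (Commute.mul_right (Commute.zpow_zpow (Commute.refl _) f σ)
        ((hJπ k j' hj').zpow_left f)) (Commute.mul_right ((hJπ k j hj).symm.zpow_right σ) (hJπ j j' hj'))
    have hz0' : α z0 = z0 ^ (d * (d * σ)) := by
      rw [hz0d, map_commutatorElement, hx', hn1, comm_mul_mul ((hHmem.1 hh0).zpow_right _ |>.mul_right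
        (hWc w1 hw1 h0)) ((hWc w1 hw1 x).zpow_left d), comm_zpow hz0d.symm (hWc z0 hz0 x) (hWc z0 hz0 n), hz0d]
    obtain ⟨γ, hγ⟩ := hgenW _ (h.JW k c (h.D_le h.c_mem))
    have hγ' : ¬ (p : ℤ) ∣ γ := fun hd' => by
      refine hkc (commutatorElement_eq_one_iff_mul_comm.1 ?_)
      obtain ⟨r, rfl⟩ := hd'
      rw [hγ, zpow_mul, zpow_natCast, ← hz0o, pow_orderOf_eq_one, one_zpow]
    obtain ⟨a, e, he, hc'⟩ := hdJ _ ((hcharJ c).2 (h.D_le h.c_mem))
    obtain ⟨ε, y, hy, rfl⟩ := hdD e he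
    have hc2 : α c = c ^ ε * (n ^ a * y) := by
      rw [hc', ← mul_assoc, ← mul_assoc]
      congr 1
      exact (hJab n h.n_mem c (h.D_le h.c_mem)).zpow_zpow a ε
    have hkey : z0 ^ (γ * (d * (d * σ))) = z0 ^ (γ * (σ * ε)) := by
      calc z0 ^ (γ * (d * (d * σ))) = α (z0 ^ γ) := by rw [map_zpow, hz0', ← zpow_mul, mul_comm γ]
        _ = ⁅k, c⁆ ^ (σ * ε) := by
          rw [← hγ, map_commutatorElement, hk', hc2, comm_mul_mul
            (hJab j' hj' _ (J.mul_mem (J.zpow_mem (h.D_le h.c_mem) ε)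
              (J.mul_mem (J.zpow_mem h.n_mem a) (h.D_le (h.W_le hy)))))
            ((hkn.zpow_zpow σ a).mul_right ((hWc y hy k).zpow_left σ))]
          exact comm_zpow rfl (hγ ▸ (hWc z0 hz0 k).zpow_right γ) (hγ ▸ (hWc z0 hz0 c).zpow_right γ) σ ε
        _ = _ := by rw [hγ, ← zpow_mul]
    have h5 := hdvd hkey
    rw [show γ * (d * (d * σ)) - γ * (σ * ε) = γ * (σ * (d * d - ε)) by ring] at h5
    have h6 := (hpi.dvd_or_dvd ((hpi.dvd_or_dvd h5).resolve_left hγ')).resolve_left hσ
    have h7 : (p : ℤ) ∣ ε - 1 := by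
      have h8 : (3 : ℤ) ∣ d * d - 1 := by
        have hd3 : ¬ (3 : ℤ) ∣ d := by simpa [hp3] using hd
        obtain ⟨q, r, hr, rfl⟩ : ∃ q r, (r = 1 ∨ r = 2) ∧ d = 3 * q + r :=
          ⟨d / 3, d % 3, by omega, by omega⟩
        rcases hr with rfl | rfl
        · exact ⟨3 * q * q + 2 * q, by ring⟩
        · exact ⟨3 * q * q + 4 * q + 1, by ring⟩
      rw [show ε - 1 = (d * d - 1) - (d * d - ε) by ring]
      refine dvd_sub ?_ h6
      rw [hp3]
      exact_mod_cast h8
    obtain ⟨r, hr⟩ := h7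
    rw [hc2, show ε = p * r + 1 by omega, zpow_add, zpow_mul, zpow_natCast, h.cp, one_zpow, one_mul,
      zpow_one, inv_mul_cancel_left]
    exact K.mul_mem (mem_sup_left (zpow_mem (mem_zpowers n) a)) (mem_sup_right hy)
  -- Yoshida's theorem
  obtain ⟨M, hM, hcM, hMinv⟩ := exists_invariant hS hF hcomK hcK fun α _ => hfix α
  have hNsys := isNormalizerSystem_normalizerSys (F := F) (Q := S) le_rfl
  have hnw : ¬ HasWreathImage p S := by
    subst hp3
    refine not_hasWreathImage hS hcard h.cardW hcenW.le fun a b g => ?_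
    have h1 := h.JW g _ (hKJ (hcomK (commutator_mem_commutator (Subgroup.mem_top a) (Subgroup.mem_top b))))
    rw [← commutatorElement_inv]
    exact W.inv_mem h1
  refine false_of_focal hhyp hcM ?_
  by_cases heq : (normalizerSys F (le_refl S)).focalSubgroup = F.focalSubgroup
  · rw [← heq]
    exact normalizer_focal_le hNsys hMinv
  · exact absurd (hasWreathImage_of_focal hS hF hNsys heq) hnw

end Cfsg.Agent.FusFive
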