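import Cfsg.Agent.FusSys.Yoshida
import Cfsg.Agent.FusSys.Normal
import Cfsg.Agent.FusSys.Inner

/-!
Homomorphisms on `S` fixed by the automorphisms of the system, and bounds on the focal subgroup.
-/

set_option autoImplicit false

namespace Cfsg.Agent.FusFive

open Cfsg Cfsg.FusionSystem Cfsg.Agent.FusSys Subgroup

universe u

variable {Ω : Type u} [Group Ω] {S : Subgroup Ω} {F : FusionSystem S} {p : ℕ}

/-- Averaging over the automorphisms modulo the inner ones. -/
theorem exists_invariant [Fact p.Prime] [Finite S] (hS : IsPGroup p S) (hF : F.IsSaturated p)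
    {M0 : Subgroup S} (hc : _root_.commutator S ≤ M0) {c : S} (hcM : c ∉ M0)
    (hfix : ∀ α ∈ F.autGroup S, c⁻¹ * α c ∈ M0) :
    ∃ M : Subgroup S, _root_.commutator S ≤ M ∧ c ∉ M ∧
      ∀ α ∈ F.autGroup S, ∀ y : S, y⁻¹ * α y ∈ M := by
  classical
  haveI : Finite (MulAut S) := Finite.of_injective _ MulEquiv.toEquiv_injective
  haveI hn : M0.Normal := Subgroup.Normal.of_commutator_le _ hc
  haveI : IsMulCommutative (S ⧸ M0) := Subgroup.Normal.quotient_commutative_iff_commutator_le.2 hc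
  letI : CommGroup (S ⧸ M0) :=
    { (inferInstance : Group (S ⧸ M0)) with
      mul_comm := fun a b => IsMulCommutative.is_comm.comm a b }
  haveI := innIn_normal F S
  set G := F.autGroup S
  set I := innIn F S
  haveI : Fintype (G ⧸ I) := Fintype.ofFinite _
  let L : G → S → S ⧸ M0 := fun α y => QuotientGroup.mk' M0 ((α : MulAut S) y)
  have hL : ∀ δ ∈ I, ∀ (α : G) (y : S), L (α * δ) y = L α y := by
    intro δ hδ α y
    obtain ⟨g, hg⟩ := mem_subgroupOf.1 hδ
    show QuotientGroup.mk' M0 ((α : MulAut S) ((δ : MulAut S) y)) = _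
    rw [← hg, MulAut.conj_apply]
    simp only [map_mul, map_inv]
    rw [mul_comm (QuotientGroup.mk' M0 _), mul_inv_cancel_right]
  let lam : S →* S ⧸ M0 := MonoidHom.mk' (fun y => ∏ q : G ⧸ I, L q.out y) fun a b => by
    rw [← Finset.prod_mul_distrib]
    exact Finset.prod_congr rfl fun q _ => by
      show QuotientGroup.mk' M0 _ = QuotientGroup.mk' M0 _ * QuotientGroup.mk' M0 _
      rw [map_mul, map_mul]
  refine ⟨lam.ker, Abelianization.commutator_subset_ker lam, fun h => ?_, fun α hα y => ?_⟩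
  · have h1 : ∀ q : G ⧸ I, L q.out c = QuotientGroup.mk' M0 c := fun q =>
      (QuotientGroup.eq.2 (hfix _ q.out.2)).symm
    have h2 : QuotientGroup.mk' M0 c ^ Nat.card (G ⧸ I) = 1 := by
      rw [Nat.card_eq_fintype_card, ← Finset.card_univ, ← Finset.prod_const]
      have h' : ∏ q : G ⧸ I, L q.out c = 1 := h
      rw [← h']
      exact (Finset.prod_congr rfl fun q _ => h1 q).symm
    have hnd : ¬ p ∣ Nat.card (G ⧸ I) := fun hd => by
      obtain ⟨-, T, hT⟩ := top_fullyAutomized hS hF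
      refine T.not_dvd_index (hd.trans ?_)
      rw [hT, ← Subgroup.index_eq_card, autInducedBy_self_eq_inn]
    obtain ⟨k, hk⟩ := IsPGroup.iff_orderOf.1 (hS.to_quotient M0) (QuotientGroup.mk' M0 c)
    refine hcM ((QuotientGroup.eq_one_iff c).1 (orderOf_eq_one_iff.1 ?_))
    have hcop : Nat.Coprime (p ^ k) (Nat.card (G ⧸ I)) :=
      Nat.Coprime.pow_left _ (((Fact.out : p.Prime)).coprime_iff_not_dvd.2 hnd)
    have h3 := orderOf_dvd_of_pow_eq_one h2
    rw [show orderOf (QuotientGroup.mk' M0 c) = p ^ k from hk] at h3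
    show orderOf (QuotientGroup.mk' M0 c) = 1
    rw [hk]
    exact hcop.eq_one_of_dvd h3
  · rw [MonoidHom.mem_ker, map_mul, map_inv, inv_mul_eq_one]
    symm
    show ∏ q : G ⧸ I, L q.out (α y) = ∏ q : G ⧸ I, L q.out y
    refine Fintype.prod_equiv (Equiv.mulRight ((⟨α, hα⟩ : G) : G ⧸ I)) _ _ fun q => ?_
    obtain ⟨δ, hδ⟩ := QuotientGroup.mk_out_eq_mul I (q.out * (⟨α, hα⟩ : G))
    have e : (Equiv.mulRight ((⟨α, hα⟩ : G) : G ⧸ I)) q = ((q.out * ⟨α, hα⟩ : G) : G ⧸ I) := by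
      rw [Equiv.coe_mulRight, QuotientGroup.mk_mul, QuotientGroup.out_eq']
    rw [e, hδ, hL _ δ.2]
    rfl

/-- A focal subgroup missing `c` contradicts `hyp = S`. -/
theorem false_of_focal (hhyp : F.hyperfocalSubgroup p = S) {M : Subgroup S} {c : S} (hcM : c ∉ M)
    (hfoc : F.focalSubgroup ≤ M.map S.subtype) : False := by
  have h := hfoc (hyperfocal_le_focal (p := p) (hhyp.symm ▸ c.2 : (c : Ω) ∈ F.hyperfocalSubgroup p))
  exact hcM ((mem_map_iff_mem S.subtype_injective).1 h)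

theorem mem_map_quot {M : Subgroup S} {α : MulAut S} (h : ∀ y : S, y⁻¹ * α y ∈ M) {x : Ω}
    (hx : x ∈ S) : x⁻¹ * apl α x ∈ M.map S.subtype :=
  ⟨⟨x, hx⟩⁻¹ * α ⟨x, hx⟩, h _, by rw [apl_apply α hx]; rfl⟩

theorem normalizerIn_self : normalizerIn S S = S :=
  le_antisymm inf_le_left (le_inf le_rfl Subgroup.le_normalizer)

/-- The focal subgroup of the normalizer system of `S`. -/
theorem normalizer_focal_le [Finite S] {N : FusionSystem (normalizerIn S S)}
    (hN : F.IsNormalizerSystem S N) {M : Subgroup S}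
    (hM : ∀ α ∈ F.autGroup S, ∀ y : S, y⁻¹ * α y ∈ M) :
    N.focalSubgroup ≤ M.map S.subtype := by
  refine focal_le_iff.2 fun X f hf x hx => ?_
  obtain ⟨hfF, hX, -, g, hg, hgf, hgS⟩ := (mor_normalizerSystem hN).1 hf
  have hgI : Iso F S S g := ⟨hg.mono le_sup_right, hgS⟩
  obtain ⟨α, hα, hαx⟩ := hgI.exists_mem_autGroup
  have hxS : x ∈ S := hfF.le hx
  rw [← hgf x hx, ← hαx x hxS]
  exact mem_map_quot (hM α hα) hxS

/-- Alperin's theorem applied to the focal subgroup. -/
theorem focal_le_of_essential [Fact p.Prime] [Finite S] (hS : IsPGroup p S) (hF : F.IsSaturated p)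
    {M : Subgroup S} (hc : _root_.commutator S ≤ M)
    (htop : ∀ α ∈ F.autGroup S, ∀ y : S, y⁻¹ * α y ∈ M)
    (hess : ∀ P, F.IsEssential p P → ∀ α ∈ F.autGroup P, ∀ x ∈ P, x⁻¹ * apl α x ∈ M.map S.subtype) :
    F.focalSubgroup ≤ M.map S.subtype := by
  have hcM : ⁅S, S⁆ ≤ M.map S.subtype := by
    rw [← Subgroup.map_subtype_commutator]
    exact Subgroup.map_mono hc
  refine focal_le_iff.2 fun X f hf x hx => ?_
  refine ((alperin_induction hS hF (subRel_diff hcM) ?_ X f hf).2.2 x hx)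
  rintro R (rfl | hR) α hα
  · exact ⟨le_rfl, fun y hy => apl_mem α hy, fun y hy => mem_map_quot (htop α hα) hy⟩
  · exact ⟨hR.1.1, fun y hy => hR.1.1 (apl_mem α hy), hess R hR α hα⟩

end Cfsg.Agent.FusFive
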