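import Cfsg.Agent.FusFive.Group
import Cfsg.Agent.FusFive.Fus
import Cfsg.Agent.FusSys.EssentialElemCubeTop
import Cfsg.Agent.FusSys.MaxClassCube

/-!
An elementary abelian essential subgroup of order `p ^ 3` in a group of order `p ^ 5`: the torus
element of order two extends to `S`, and `S` modulo the centre of the transvection has class two.
-/

set_option autoImplicit false

namespace Cfsg.Agent.FusFive

open Cfsg Cfsg.FusionSystem Cfsg.Agent.FusSys Subgroup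
open scoped commutatorElement

universe u

variable {Ω : Type u} [Group Ω] {S : Subgroup Ω} {F : FusionSystem S} {p : ℕ} [hp : Fact p.Prime]
variable [Finite S]

/-- What is known around a cube: `W < D < J < N`, all normal, the last three steps of index `p`. -/
structure CubeData (p : ℕ) (X : Type*) [Group X] (W D J N : Subgroup X) (x n w c s : X) : Prop where
  cardW : Nat.card W = p
  cardD : Nat.card D = p ^ 2
  cardJ : Nat.card J = p ^ 3
  cardN : Nat.card N = p ^ 4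
  normW : W.Normal
  normD : D.Normal
  normJ : J.Normal
  W_le : W ≤ D
  D_le : D ≤ J
  J_le : J ≤ N
  w_mem : w ∈ W
  c_mem : c ∈ D
  c_not : c ∉ W
  x_mem : x ∈ N
  n_mem : n ∈ J
  n_not : n ∉ D
  s_not : s ∉ N
  xs : ⁅x, s⁆ = n
  xp : x ^ p = 1
  cp : c ^ p = 1
  D_central : ∀ g ∈ N, ∀ d ∈ D, Commute g d
  xn : ¬ Commute x n
  NW : ∀ g ∈ N, ∀ h ∈ N, ⁅g, h⁆ ∈ W
  Z_le : center X ≤ D
  JW : ∀ g : X, ∀ j ∈ J, ⁅g, j⁆ ∈ W

/-- The torus element of order two gives the class condition. -/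
theorem cube_data (hS : IsPGroup p S) (hF : F.IsSaturated p) (hp2 : p ≠ 2)
    (hcard : Nat.card S = p ^ 5) {E : Subgroup Ω} (hE : F.IsEssential p E)
    (hab : ∀ a ∈ E, ∀ b ∈ E, a * b = b * a) (hexp : ∀ a ∈ E, a ^ p = 1)
    (hEc : Nat.card E = p ^ 3) :
    ∃ (W D J N : Subgroup S) (x n w c s : S), CubeData p S W D J N x n w c s ∧
      (5 ≤ p → D ≤ center S) := by
  classical
  have hpp := hp.out
  obtain ⟨hN4, b, x, w, c, D0, hbN, hbE, hDE, hDc, hwD, hw1, hcD, hcw, hxE, hxD, hbx, hcen, htor⟩ :=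
    elem_cube hS hF hE hab hexp hEc hcard.ge
  obtain ⟨f, hf, hfE, hfx, hfw, hfc, hfb⟩ := htor (-1) (-1) (by norm_num)
  have hES := hE.1.1
  haveI := finite_of_le hES
  set N0 := normalizerIn S E with hN0
  have hNS : N0 ≤ S := inf_le_left
  haveI := finite_of_le hNS
  have hEN : E ≤ N0 := le_normalizerIn hES
  have hDN : D0 ≤ N0 := hDE.trans hEN
  haveI := finite_of_le (hDN.trans hNS)
  have hcN : Nat.card N0 = p * Nat.card E := by rw [hN4, hEc, pow_succ']
  have hcE : Nat.card E = p * Nat.card D0 := by rw [hEc, hDc, pow_succ']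
  -- work inside `S`
  set En := E.subgroupOf S with hEn
  set N := N0.subgroupOf S with hN
  set D := D0.subgroupOf S with hD
  have hEnc : Nat.card En = p ^ 3 := (Nat.card_congr (subgroupOfEquivOfLe hES).toEquiv).trans hEc
  have hNc : Nat.card N = p ^ 4 := (Nat.card_congr (subgroupOfEquivOfLe hNS).toEquiv).trans hN4
  have hDcard : Nat.card D = p ^ 2 :=
    (Nat.card_congr (subgroupOfEquivOfLe (hDN.trans hNS)).toEquiv).trans hDc
  have hEnN : En ≤ N := fun a ha => hEN ha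
  have hDEn : D ≤ En := fun a ha => hDE ha
  haveI hNn : N.Normal := by
    haveI := hS.isNilpotent
    refine Subgroup.normal_of_index_eq_minFac_card ?_
    have h2 := N.card_mul_index
    rw [hNc, hcard, pow_succ p 4] at h2
    rw [Nat.eq_of_mul_eq_mul_left (pow_pos hpp.pos 4) h2, hcard, Nat.pow_minFac (by norm_num),
      hpp.minFac_eq]
  -- elements
  obtain ⟨bS, hbS⟩ : ∃ y : S, (y : Ω) = b := ⟨⟨b, hNS hbN⟩, rfl⟩
  obtain ⟨xS, hxS⟩ : ∃ y : S, (y : Ω) = x := ⟨⟨x, hES hxE⟩, rfl⟩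
  obtain ⟨wS, hwS⟩ : ∃ y : S, (y : Ω) = w := ⟨⟨w, hES (hDE hwD)⟩, rfl⟩
  obtain ⟨cS, hcS⟩ : ∃ y : S, (y : Ω) = c := ⟨⟨c, hES (hDE hcD)⟩, rfl⟩
  have hbN' : bS ∈ N := mem_subgroupOf.2 (hbS ▸ hbN)
  have hbE' : bS ∉ En := fun h => hbE (hbS ▸ mem_subgroupOf.1 h)
  have hxE' : xS ∈ En := mem_subgroupOf.2 (hxS ▸ hxE)
  have hxD' : xS ∉ D := fun h => hxD (hxS ▸ mem_subgroupOf.1 h)
  have hwD' : wS ∈ D := mem_subgroupOf.2 (hwS ▸ hwD)
  have hcD' : cS ∈ D := mem_subgroupOf.2 (hcS ▸ hcD)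
  have hw1' : wS ≠ 1 := fun h => hw1 (by rw [← hwS, h, OneMemClass.coe_one])
  have hexp' : ∀ a ∈ En, a ^ p = 1 := fun a ha => Subtype.ext (by simpa using hexp a ha)
  have hab' : ∀ a ∈ En, ∀ a' ∈ En, Commute a a' := fun a ha a' ha' => Subtype.ext (hab a ha a' ha')
  have hDcen : ∀ g ∈ N, ∀ d ∈ D, Commute g d := fun g hg d hd => Subtype.ext (hcen g hg d hd)
  have hbx' : bS * xS * bS⁻¹ = xS * wS := Subtype.ext (by simp [hbS, hxS, hwS, hbx])
  have hwo : orderOf wS = p := orderOf_eq_prime (hexp' _ (hDEn hwD')) hw1'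
  have hdvdw : ∀ i : ℤ, wS ^ i = 1 → (p : ℤ) ∣ i := fun i hi => by
    rw [← hwo, orderOf_dvd_iff_zpow_eq_one]; exact hi
  obtain ⟨hdN, hpowN, hconjN⟩ := decomp hS hEnN (by rw [hNc, hEnc, pow_succ']) hbN' hbE'
  obtain ⟨hdE, hpowE, -⟩ := decomp hS hDEn (by rw [hEnc, hDcard, pow_succ']) hxE' hxD'
  -- conjugation by powers of `b` on `E`
  have hbiter : ∀ i : ℤ, ∀ e ∈ En, ∃ r : ℤ, bS ^ i * e * (bS ^ i)⁻¹ = e * wS ^ r := by
    intro i e he
    obtain ⟨j, d, hd, rfl⟩ := hdE e he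
    refine ⟨i * j, ?_⟩
    have h1 := conj_iter hbx' (hDcen bS hbN' wS hwD') i
    calc bS ^ i * (xS ^ j * d) * (bS ^ i)⁻¹
        = (bS ^ i * xS * (bS ^ i)⁻¹) ^ j * (bS ^ i * d * (bS ^ i)⁻¹) := by rw [conj_zpow]; group
      _ = (xS * wS ^ i) ^ j * d := by
          rw [h1, (hDcen _ (N.zpow_mem hbN' i) d hd).eq, mul_inv_cancel_right]
      _ = xS ^ j * wS ^ (i * j) * d := by
          rw [((hDcen xS (hEnN hxE') wS hwD').zpow_right i).mul_zpow, ← zpow_mul]
      _ = _ := by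
          rw [mul_assoc, mul_assoc, ((hDcen d (hEnN (hDEn hd)) wS hwD').zpow_right (i * j)).eq]
  -- the centre of `N`
  have hZN : ∀ z ∈ N, (∀ g ∈ N, Commute g z) → z ∈ D := by
    intro z hz hzc
    obtain ⟨i, e, he, rfl⟩ := hdN z hz
    have hi : (p : ℤ) ∣ i := by
      have h1 := conj_iter hbx' (hDcen bS hbN' wS hwD') i
      have h2 : bS ^ i * e * xS = xS * (bS ^ i * e) := (hzc xS (hEnN hxE')).eq.symm
      refine hdvdw i (mul_left_cancel (a := xS) ?_)
      calc xS * wS ^ i = bS ^ i * xS * (bS ^ i)⁻¹ := h1.symm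
        _ = bS ^ i * (e * xS * e⁻¹) * (bS ^ i)⁻¹ := by
            rw [(hab' e he xS hxE').eq, mul_inv_cancel_right]
        _ = (bS ^ i * e) * xS * (bS ^ i * e)⁻¹ := by group
        _ = xS * 1 := by rw [h2, mul_inv_cancel_right, mul_one]
    have hzE : bS ^ i * e ∈ En := En.mul_mem ((hpowN i).2 hi) he
    obtain ⟨j, d, hd, hjd⟩ := hdE _ hzE
    rw [hjd] at hzc ⊢
    have hj : (p : ℤ) ∣ j := by
      have h1 : bS * (xS ^ j * d) * bS⁻¹ = xS ^ j * d * 1 := by
        rw [mul_one, (hzc bS hbN').eq, mul_inv_cancel_right]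
      have h2 : bS * (xS ^ j * d) * bS⁻¹ = xS ^ j * d * wS ^ j := by
        calc bS * (xS ^ j * d) * bS⁻¹ = (bS * xS * bS⁻¹) ^ j * (bS * d * bS⁻¹) := by
              rw [conj_zpow]; group
          _ = (xS * wS) ^ j * d := by rw [hbx', (hDcen bS hbN' d hd).eq, mul_inv_cancel_right]
          _ = _ := by
              rw [(hDcen xS (hEnN hxE') wS hwD').mul_zpow, mul_assoc, mul_assoc,
                ((hDcen d (hEnN (hDEn hd)) wS hwD').zpow_right j).eq]
      exact hdvdw j (mul_left_cancel (h2.symm.trans h1))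
    exact D.mul_mem ((hpowE j).2 hj) hd
  have hZS : center S ≤ D := fun z hz =>
    hZN z (hEnN (mem_subgroupOf.2 (centric_self hE.1 ⟨z.2, mem_centralizer_iff.2 fun a ha =>
      congrArg Subtype.val (mem_center_iff.1 hz ⟨a, hES ha⟩)⟩)))
      fun g _ => mem_center_iff.1 hz g
  haveI hDn : D.Normal := ⟨fun d hd g => hZN _ (hNn.conj_mem d (hEnN (hDEn hd)) g) fun m hm => by
    have h1 := hDcen (g⁻¹ * m * g) (by simpa using hNn.conj_mem m hm g⁻¹) d hd
    calc m * (g * d * g⁻¹) = g * ((g⁻¹ * m * g) * d) * g⁻¹ := by group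
      _ = g * (d * (g⁻¹ * m * g)) * g⁻¹ := by rw [h1.eq]
      _ = _ := by group⟩
  -- commutators inside `N`
  set W := zpowers wS with hW
  have hWc : Nat.card W = p := by rw [hW, Nat.card_zpowers, hwo]
  have hWD : W ≤ D := zpowers_le.2 hwD'
  have hNW : ∀ g ∈ N, ∀ h ∈ N, ⁅g, h⁆ ∈ W := by
    intro g hg h hh
    obtain ⟨i, e, he, rfl⟩ := hdN g hg
    obtain ⟨j, e', he', rfl⟩ := hdN h hh
    obtain ⟨r, hr⟩ := hbiter j e he
    obtain ⟨r', hr'⟩ := hbiter i e' he'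
    have hwc : ∀ y ∈ N, ∀ t : ℤ, Commute y (wS ^ t) := fun y hy t =>
      (hDcen y hy wS hwD').zpow_right t
    have hB : ∀ t : ℤ, bS ^ t ∈ N := fun t => N.zpow_mem hbN' t
    have key : ∀ (t : ℤ) (a : S), a ∈ En → ∀ q : ℤ, bS ^ t * a * (bS ^ t)⁻¹ = a * wS ^ q →
        a * bS ^ t = bS ^ t * a * wS ^ (-q) := by
      intro t a ha q h1
      calc a * bS ^ t = (a * wS ^ q) * wS ^ (-q) * bS ^ t := by group
        _ = (bS ^ t * a * (bS ^ t)⁻¹) * (bS ^ t * wS ^ (-q)) := by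
            rw [← h1, mul_assoc, (hwc _ (hB t) (-q)).eq]
        _ = _ := by group
    have e1 : bS ^ i * e * (bS ^ j * e') = bS ^ (i + j) * (e * e') * wS ^ (-r) := by
      calc bS ^ i * e * (bS ^ j * e') = bS ^ i * (e * bS ^ j) * e' := by group
        _ = bS ^ i * (bS ^ j * e) * (wS ^ (-r) * e') := by rw [key j e he r hr]; group
        _ = bS ^ i * (bS ^ j * e) * (e' * wS ^ (-r)) := by rw [(hwc e' (hEnN he') _).eq]
        _ = _ := by group
    have e2 : bS ^ j * e' * (bS ^ i * e) = bS ^ (i + j) * (e * e') * wS ^ (-r') := by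
      calc bS ^ j * e' * (bS ^ i * e) = bS ^ j * (e' * bS ^ i) * e := by group
        _ = bS ^ j * (bS ^ i * e') * (wS ^ (-r') * e) := by rw [key i e' he' r' hr']; group
        _ = bS ^ j * (bS ^ i * e') * (e * wS ^ (-r')) := by rw [(hwc e (hEnN he) _).eq]
        _ = bS ^ (j + i) * (e' * e) * wS ^ (-r') := by group
        _ = _ := by rw [add_comm j i, (hab' e' he' e he).eq]
    have e3 : ⁅bS ^ i * e, bS ^ j * e'⁆ = wS ^ (r' - r) := by
      calc ⁅bS ^ i * e, bS ^ j * e'⁆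
          = (bS ^ i * e * (bS ^ j * e')) * (bS ^ j * e' * (bS ^ i * e))⁻¹ := by
            rw [commutatorElement_def]; group
        _ = _ := by
            rw [e1, e2, mul_inv_rev, ← mul_assoc, mul_assoc (bS ^ (i + j) * (e * e')), ← zpow_neg,
              ← zpow_add, (hwc _ (N.mul_mem (hB _) (N.mul_mem (hEnN he) (hEnN he'))) _).eq,
              mul_inv_cancel_right]
            congr 1
            ring
    exact e3 ▸ zpow_mem (mem_zpowers wS) _
  have hwcomm : ⁅bS, xS⁆ = wS := by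
    rw [commutatorElement_def, hbx', (hDcen xS (hEnN hxE') wS hwD').eq, mul_inv_cancel_right]
  haveI hWn : W.Normal := ⟨fun y hy g => by
    obtain ⟨i, rfl⟩ := mem_zpowers_iff.1 hy
    rw [← conj_zpow]
    refine W.zpow_mem ?_ i
    rw [← hwcomm, show g * ⁅bS, xS⁆ * g⁻¹ = ⁅g * bS * g⁻¹, g * xS * g⁻¹⁆ by
      simp only [commutatorElement_def]; group]
    exact hNW _ (hNn.conj_mem _ hbN' g) _ (hNn.conj_mem _ (hEnN hxE') g)⟩
  -- `E` is not normal
  have hmemN : ∀ g : S, (∀ a ∈ En, g * a * g⁻¹ ∈ En) → g ∈ N := fun g hg => by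
    refine mem_subgroupOf.2 ⟨g.2, ?_⟩
    have hmap : E.map (MulAut.conj (g : Ω)).toMonoidHom = E := by
      refine eq_of_le_of_card_ge ?_ (card_map_of_injective (MulAut.conj (g : Ω)).injective).ge
      rintro _ ⟨a, ha, rfl⟩
      exact hg ⟨a, hES ha⟩ ha
    refine Subgroup.mem_normalizer_iff.2 fun y => ⟨fun hy => ?_, fun hy => ?_⟩
    · rw [← hmap]; exact mem_map_of_mem _ hy
    · rw [← hmap, mem_conj_map] at hy
      rwa [show (g : Ω)⁻¹ * (g * y * (g : Ω)⁻¹) * g = y by group] at hy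
  obtain ⟨s, hs⟩ : ∃ s : S, s ∉ N := by
    by_contra! h
    have h1 := Subgroup.card_le_of_le (show (⊤ : Subgroup S) ≤ N from fun g _ => h g)
    rw [card_top, hcard, hNc] at h1
    exact absurd ((Nat.pow_le_pow_iff_right hpp.one_lt).1 h1) (by norm_num)
  -- the subgroup `J`
  set J := ⁅N, (⊤ : Subgroup S)⁆ ⊔ D with hJ
  haveI hJn : J.Normal := inferInstance
  have hJN : J ≤ N := sup_le (commutator_le_left N ⊤) (hDEn.trans hEnN)
  have hDJ : D ≤ J := le_sup_right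
  have hnE : ⁅xS, s⁆ ∉ En := fun h => hs (hmemN s fun a ha => by
    obtain ⟨i, d, hd, rfl⟩ := hdE a ha
    rw [show s * (xS ^ i * d) * s⁻¹ = (⁅xS, s⁆⁻¹ * xS) ^ i * (s * d * s⁻¹) by
      rw [show ⁅xS, s⁆⁻¹ * xS = s * xS * s⁻¹ by rw [commutatorElement_def]; group, conj_zpow]; group]
    exact En.mul_mem (En.zpow_mem (En.mul_mem (En.inv_mem h) hxE') i) (hDEn (hDn.conj_mem d hd s)))
  set n := ⁅xS, s⁆ with hn
  have hnJ : n ∈ J := mem_sup_left (commutator_mem_commutator (hEnN hxE') (Subgroup.mem_top s))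
  have hnD : n ∉ D := fun h => hnE (hDEn h)
  have hJne : J ≠ N := by
    intro e
    set π := QuotientGroup.mk' D
    have h1 : N.map π ≤ ⁅N.map π, (⊤ : Subgroup (S ⧸ D))⁆ := by
      conv_lhs => rw [← e, hJ, Subgroup.map_sup, map_commutator,
        (Subgroup.map_eq_bot_iff D).2 (QuotientGroup.ker_mk' D).ge, sup_bot_eq,
        Subgroup.map_top_of_surjective _ (QuotientGroup.mk'_surjective D)]
    have h2 : ∀ i, N.map π ≤ (⊤ : Subgroup (S ⧸ D)).lowerCentralSeries i := by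
      intro i
      induction i with
      | zero => exact le_top
      | succ i ih => exact h1.trans (commutator_mono ih le_rfl)
    haveI := (hS.to_quotient D).isNilpotent
    obtain ⟨m, hm⟩ := Subgroup.nilpotent_iff_lowerCentralSeries.1 (inferInstance : Group.IsNilpotent (S ⧸ D))
    have h3 := h2 m (mem_map_of_mem π hbN')
    rw [hm, mem_bot, QuotientGroup.mk'_apply, QuotientGroup.eq_one_iff] at h3
    exact hbE' (hDEn h3)
  have hJc : Nat.card J = p ^ 3 := by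
    obtain ⟨e, he⟩ := IsPGroup.iff_card.1 (hS.to_subgroup J)
    have h1 : p ^ 2 < p ^ e := by
      rw [← hDcard, ← he]
      by_contra hge
      exact hnD ((eq_of_le_of_card_ge hDJ (not_lt.1 hge)).ge hnJ)
    have h2 : p ^ e < p ^ 4 := by
      rw [← hNc, ← he]
      by_contra hge
      exact hJne (eq_of_le_of_card_ge hJN (not_lt.1 hge))
    have := (Nat.pow_lt_pow_iff_right hpp.one_lt).1 h1
    have := (Nat.pow_lt_pow_iff_right hpp.one_lt).1 h2
    rw [he, show e = 3 by omega]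
  -- `f` stabilises the chain and extends to `S`
  set J0 := J.map S.subtype with hJ0
  set W0 := W.map S.subtype with hW0
  have hmemJ : ∀ y : S, (y : Ω) ∈ J0 ↔ y ∈ J := fun y => mem_map_iff_mem S.subtype_injective
  have hSN : ∀ g ∈ S, g ∈ normalizerIn S N0 := fun g hg => by
    refine mem_normalizerIn_of_conj hNS hg fun y hy => ?_
    exact mem_subgroupOf.1 (hNn.conj_mem ⟨y, hNS hy⟩ hy ⟨g, hg⟩)
  have hNN : normalizerIn S N0 = S := le_antisymm inf_le_left hSN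
  have hfnN : F.IsFullyNormalized N0 :=
    ⟨hNS, fun Q _ => by rw [hNN]; exact Subgroup.card_le_of_le inf_le_left⟩
  have hDinv : ∀ g, Iso F N0 N0 g → ∀ y ∈ D0, g y ∈ D0 := by
    intro g hg y hy
    have hgy : g y ∈ N0 := hg.mem (hDN hy)
    refine mem_subgroupOf.1 (hZN ⟨g y, hNS hgy⟩ (mem_subgroupOf.2 hgy) fun m hm => Subtype.ext ?_)
    obtain ⟨m', hm', hmm⟩ := hg.exists_eq (mem_subgroupOf.1 hm)
    show (m : Ω) * g y = g y * m
    rw [← hmm, ← hg.1.map_mul hm' (hDN hy), hcen m' hm' y hy, hg.1.map_mul (hDN hy) hm']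
  have hD0J : D0 ≤ J0 := fun y hy => ⟨⟨y, hNS (hDN hy)⟩, hDJ hy, rfl⟩
  have hJ0N : J0 ≤ N0 := by rintro _ ⟨y, hy, rfl⟩; exact hJN hy
  have hJ0c : Nat.card J0 = Nat.card E := by
    rw [hJ0, card_map_of_injective S.subtype_injective, hJc, hEc]
  have hbig : p * Nat.card N0 ≤ Nat.card (normalizerIn S N0) := by
    rw [hNN, hcard, hN4, ← pow_succ']
  have hfJ : ∀ y ∈ J0, f y ∈ J0 := by
    refine fixed_invariant hS hE.2.1 hN0.symm hDE hcE hcN hDinv hbig hD0J hJ0N hJ0c (fun g hg => ?_) hf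
    refine (mem_normalizerIn_of_conj (map_subtype_le J) hg.1 ?_).2
    rintro _ ⟨y, hy, rfl⟩
    exact ⟨_, hJn.conj_mem y hy ⟨g, hg.1⟩, rfl⟩
  set C : ℕ → Subgroup Ω := fun i =>
    if i = 0 then ⊥ else if i = 1 then W0 else if i = 2 then D0 else if i = 3 then J0 else N0
  have hW0D : W0 ≤ D0 := by rintro _ ⟨y, hy, rfl⟩; exact hWD hy
  have hmono : Monotone C := monotone_nat_of_le_succ fun i => by
    match i with
    | 0 => exact bot_le
    | 1 => exact hW0D
    | 2 => exact hD0J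
    | 3 => exact hJ0N
    | i + 4 => exact le_rfl
  have hCN : ∀ i, C i ≤ N0 := fun i => by
    match i with
    | 0 => exact bot_le
    | 1 => exact hW0D.trans hDN
    | 2 => exact hDN
    | 3 => exact hJ0N
    | i + 4 => exact le_rfl
  have hfC : ∀ i, i ≤ 4 → ∀ y ∈ N0, y ∈ C i → f y ∈ C i := fun i _ y _ hy => by
    rcases i with _ | _ | _ | _ | i
    · show _ ∈ C 0
      have h0 : y = 1 := mem_bot.1 hy
      rw [h0, hf.1.map_one]
      exact (C 0).one_mem
    · show _ ∈ W0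
      obtain ⟨y', hy', rfl⟩ := (show y ∈ W0 from hy)
      obtain ⟨k, rfl⟩ := mem_zpowers_iff.1 hy'
      obtain ⟨φ, -, hφ⟩ := hf.1
      have e := map_zpow φ (⟨w, hDN hwD⟩ : N0) k
      rw [hφ, hφ] at e
      refine ⟨wS ^ (-k), zpow_mem (mem_zpowers _) _, ?_⟩
      have e' : f ((wS : Ω) ^ k) = (f (wS : Ω)) ^ k := by simpa [hwS] using e
      simp only [Subgroup.coe_subtype, SubgroupClass.coe_zpow]
      rw [e', hwS, hfw, ← zpow_mul, neg_one_mul]
    · exact hDinv f hf y hy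
    · exact hfJ y hy
    · exact hf.mem hy
  have hSC : ∀ i, i ≤ 4 → ∀ g ∈ normalizerIn S N0, ∀ y ∈ N0, y ∈ C i → g * y * g⁻¹ ∈ C i := by
    intro i _ g hg y hy hyC
    rcases i with _ | _ | _ | _ | i
    · show _ ∈ C 0
      have h0 : y = 1 := mem_bot.1 hyC
      rw [h0, mul_one, mul_inv_cancel]
      exact (C 0).one_mem
    · show _ ∈ W0
      obtain ⟨y', hy', rfl⟩ := (show y ∈ W0 from hyC)
      exact ⟨_, hWn.conj_mem y' hy' ⟨g, hg.1⟩, rfl⟩
    · exact mem_subgroupOf.1 (hDn.conj_mem ⟨y, hNS hy⟩ hyC ⟨g, hg.1⟩)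
    · show _ ∈ J0
      obtain ⟨y', hy', rfl⟩ := (show y ∈ J0 from hyC)
      exact ⟨_, hJn.conj_mem y' hy' ⟨g, hg.1⟩, rfl⟩
    · exact (Subgroup.mem_normalizer_iff.1 hg.2 y).1 hy
  have hstep : ∀ i < 4, ((C i).subgroupOf N0).relIndex ((C (i + 1)).subgroupOf N0) ≤ p := by
    intro i hi
    have hcC : Nat.card (C (i + 1)) = Nat.card (C i) * p := by
      have hW0c : Nat.card W0 = p := by rw [hW0, card_map_of_injective S.subtype_injective, hWc]
      match i with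
      | 0 => exact hW0c.trans (by simp [C])
      | 1 => exact hDc.trans ((pow_two p).trans (by rw [← hW0c]; rfl))
      | 2 => exact hJ0c.trans (hcE.trans (mul_comm _ _))
      | 3 => exact hcN.trans ((mul_comm _ _).trans (by rw [← hJ0c]; rfl))
      | i + 4 => omega
    have h1 := (((C i).subgroupOf N0).subgroupOf ((C (i + 1)).subgroupOf N0)).card_mul_index
    rw [Nat.card_congr (subgroupOfEquivOfLe
        (show (C i).subgroupOf N0 ≤ (C (i + 1)).subgroupOf N0 from fun y hy => hmono (Nat.le_succ i) hy)).toEquiv,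
      Nat.card_congr (subgroupOfEquivOfLe (hCN i)).toEquiv,
      Nat.card_congr (subgroupOfEquivOfLe (hCN (i + 1))).toEquiv, hcC] at h1
    haveI := finite_of_le ((hCN i).trans hNS)
    exact (Nat.eq_of_mul_eq_mul_left Nat.card_pos h1).le
  obtain ⟨f', hf', hff'⟩ := exists_extension hS hF hfnN hf hmono (n := 4) le_rfl rfl hfC hSC hstep
  rw [hNN] at hf'
  obtain ⟨φ, hφ, hφx⟩ := hf'.exists_mem_autGroup
  have hφN : ∀ y : S, y ∈ N → ((φ y : S) : Ω) = f y := fun y hy => by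
    rw [← apl_coe φ y, hφx _ y.2, hff' _ (mem_subgroupOf.1 hy)]
  have hφxS : φ xS = xS⁻¹ := Subtype.ext (by
    rw [hφN xS (hEnN hxE'), hxS, hfx, zpow_neg_one, InvMemClass.coe_inv, hxS])
  have hφwS : φ wS = wS⁻¹ := Subtype.ext (by
    rw [hφN wS (hEnN (hDEn hwD')), hwS, hfw, zpow_neg_one, InvMemClass.coe_inv, hwS])
  have hφcS : φ cS = cS := Subtype.ext (by rw [hφN cS (hEnN (hDEn hcD')), hcS, hfc])
  have hφJ : ∀ y ∈ J, φ y ∈ J := fun y hy => (hmemJ _).1 (by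
    rw [hφN y (hJN hy)]; exact hfJ _ ((hmemJ y).2 hy))
  -- `φ` fixes `J` modulo `D`
  have hJE : ∀ y ∈ J, y ∈ En → y ∈ D := by
    intro y hy hyE
    obtain ⟨e, he⟩ := IsPGroup.iff_card.1 (hS.to_subgroup (J ⊓ En))
    have h1 : J ⊓ En = D := by
      refine (eq_of_le_of_card_ge (le_inf hDJ hDEn) ?_).symm
      rw [hDcard, he]
      refine Nat.pow_le_pow_right hpp.pos ?_
      by_contra h3
      have h4 : J ⊓ En = J := eq_of_le_of_card_ge inf_le_left (by
        rw [hJc, he]; exact Nat.pow_le_pow_right hpp.pos (by omega))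
      exact hnE ((inf_eq_left.1 h4) hnJ)
    exact h1.le ⟨hy, hyE⟩
  have hφE : ∀ e ∈ En, φ e ∈ En := fun e he => mem_subgroupOf.2 (by
    rw [hφN e (hEnN he)]; exact hfE _ he)
  have hφb : bS⁻¹ * φ bS ∈ En := mem_subgroupOf.2 (by
    rw [Subgroup.coe_mul, InvMemClass.coe_inv, hbS, hφN bS hbN', hbS]
    simpa using hfb)
  have hφJD : ∀ y ∈ J, y⁻¹ * φ y ∈ D := by
    intro y hy
    refine hJE _ (J.mul_mem (J.inv_mem hy) (hφJ y hy)) ?_
    obtain ⟨i, e, he, rfl⟩ := hdN y (hJN hy)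
    haveI : (En.subgroupOf N).Normal := ⟨fun a ha g => mem_subgroupOf.2
      (by simpa using hconjN g g.2 a (mem_subgroupOf.1 ha))⟩
    have hφN' : φ bS ∈ N := by
      have h1 := N.mul_mem hbN' (hEnN hφb)
      rwa [mul_inv_cancel_left] at h1
    have h2 : ((⟨bS, hbN'⟩ : N) : N ⧸ En.subgroupOf N) = ((⟨φ bS, hφN'⟩ : N) : N ⧸ En.subgroupOf N) :=
      QuotientGroup.eq.2 (mem_subgroupOf.2 hφb)
    have h3 : (bS ^ i)⁻¹ * φ bS ^ i ∈ En := by
      have h4 := congrArg (· ^ i) h2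
      simp only [← QuotientGroup.mk_zpow] at h4
      simpa using mem_subgroupOf.1 (QuotientGroup.eq.1 h4)
    rw [map_mul, map_zpow, show (bS ^ i * e)⁻¹ * (φ bS ^ i * φ e) =
      e⁻¹ * ((bS ^ i)⁻¹ * φ bS ^ i) * φ e by group]
    exact En.mul_mem (En.mul_mem (En.inv_mem he) h3) (hφE e he)
  -- every element is `s ^ i` times an element of `N`
  obtain ⟨hdS, hpowS, -⟩ := decomp hS (le_top : N ≤ ⊤) (by rw [card_top, hcard, hNc, pow_succ'])
    (Subgroup.mem_top s) hs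
  obtain ⟨l, n0, hn0, hφs⟩ := hdS (φ s) (Subgroup.mem_top _)
  obtain ⟨hdJ, hpowJ, -⟩ := decomp hS hDJ (by rw [hJc, hDcard, pow_succ']) hnJ hnD
  -- steps of order `p`
  have hJD : ∀ g : S, ∀ j ∈ J, ⁅g, j⁆ ∈ D := by
    intro g j hj
    have h1 := comm_step hS (M := S) le_rfl hD0J (map_subtype_le J)
      (fun m hm y hy => mem_subgroupOf.1 (hDn.conj_mem ⟨y, hNS (hDN hy)⟩ hy ⟨m, hm⟩))
      (fun m hm y hy => by
        obtain ⟨y', hy', rfl⟩ := hy
        exact ⟨_, hJn.conj_mem y' hy' ⟨m, hm⟩, rfl⟩)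
      (by rw [hJ0c, hcE]) g g.2 j ((hmemJ j).2 hj)
    exact mem_subgroupOf.2 (by simpa [commutatorElement_def] using h1)
  have hDW : ∀ g : S, ∀ d ∈ D, ⁅g, d⁆ ∈ W := by
    intro g d hd
    have h1 := comm_step hS (M := S) le_rfl hW0D (hDN.trans hNS)
      (fun m hm y hy => by
        obtain ⟨y', hy', rfl⟩ := hy
        exact ⟨_, hWn.conj_mem y' hy' ⟨m, hm⟩, rfl⟩)
      (fun m hm y hy => mem_subgroupOf.1 (hDn.conj_mem ⟨y, hNS (hDN hy)⟩ hy ⟨m, hm⟩))
      (by rw [hDc, hW0, card_map_of_injective S.subtype_injective, hWc, pow_two]) g g.2 d hd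
    obtain ⟨y', hy', e⟩ := h1
    have e' : y' = ⁅g, d⁆ := Subtype.ext (by simpa [commutatorElement_def] using e)
    exact e' ▸ hy'
  -- `l = -1` modulo `p`
  have hl : (p : ℤ) ∣ l + 1 := by
    set π := QuotientGroup.mk' D
    have hnc : ∀ g : S, Commute (π g) (π n) := fun g => commute_of_conj_mk (hJD g n hnJ)
    have hxn0 : Commute (π n0) (π xS) := commute_of_conj_mk (hWD (hNW n0 hn0 xS (hEnN hxE')))
    have h1 : π (φ n) = π n := (QuotientGroup.eq.2 (hφJD n hnJ)).symm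
    rw [hn, map_commutatorElement φ, hφxS, hφs, map_commutatorElement π, map_mul, map_inv, map_zpow,
      show (π xS)⁻¹ = (π xS) ^ (-1 : ℤ) * 1 by rw [zpow_neg_one, mul_one],
      comm_mul_mul (Commute.one_left _) (hxn0.symm.zpow_left _),
      comm_zpow (map_commutatorElement π xS s).symm (hnc xS) (hnc s)] at h1
    have h2 : π (n ^ (-1 * l - 1)) = 1 := by
      rw [map_zpow, zpow_sub, zpow_one, h1, mul_inv_cancel]
    have h3 := (hpowJ _).1 ((QuotientGroup.eq_one_iff _).1 h2)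
    rw [show -1 * l - 1 = -(l + 1) by ring, dvd_neg] at h3
    exact h3
  -- `[n, s]` lies in `W`
  have hns : ⁅n, s⁆ ∈ W := by
    set π := QuotientGroup.mk' W
    have hDc' : ∀ g : S, ∀ d ∈ D, Commute (π g) (π d) := fun g d hd => commute_of_conj_mk (hDW g d hd)
    have hnsD : ⁅n, s⁆ ∈ D := by
      rw [← commutatorElement_inv]
      exact D.inv_mem (hJD s n hnJ)
    have hfixD : ∀ d ∈ D, π (φ d) = π d := by
      intro d hd
      obtain ⟨hdD, -, -⟩ := decomp hS hWD (by rw [hDcard, hWc, pow_two]) hcD' (fun h => hcw (by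
        obtain ⟨i, hi⟩ := mem_zpowers_iff.1 h
        exact mem_zpowers_iff.2 ⟨i, by rw [← hwS, ← hcS, ← hi]; simp⟩))
      obtain ⟨v, y, hy, rfl⟩ := hdD d hd
      obtain ⟨u, rfl⟩ := mem_zpowers_iff.1 hy
      rw [map_mul, map_zpow, map_zpow, hφcS, hφwS, map_mul, map_mul, map_zpow, map_zpow, map_zpow,
        map_inv, show π wS = 1 from (QuotientGroup.eq_one_iff _).2 (mem_zpowers _), inv_one]
    have h1 : π (φ ⁅n, s⁆) = π ⁅n, s⁆ := hfixD _ hnsD
    obtain ⟨d, hd, hdn⟩ : ∃ d ∈ D, φ n = n * d := ⟨n⁻¹ * φ n, hφJD n hnJ, (mul_inv_cancel_left _ _).symm⟩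
    have hnn0 : Commute (π n) (π n0) := commute_of_conj_mk (hNW n (hJN hnJ) n0 hn0)
    have hz : ∀ g : S, Commute (π g) (π ⁅n, s⁆) := fun g => hDc' g _ hnsD
    rw [map_commutatorElement φ, hdn, hφs, map_commutatorElement π, map_mul, map_mul, map_zpow,
      comm_mul_mul ((((hDc' s d hd).zpow_left l).mul_left (hDc' n0 d hd)).symm) hnn0,
      show π n = π n ^ (1 : ℤ) by rw [zpow_one],
      comm_zpow (z := π ⁅n, s⁆) (map_commutatorElement π n s).symm (hz n) (hz s), one_mul] at h1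
    have hWp : ⁅n, s⁆ ^ p = 1 := hexp' _ (hDEn hnsD)
    have h2 : ∀ m : ℤ, (p : ℤ) ∣ m → (π ⁅n, s⁆) ^ m = 1 := by
      rintro m ⟨k, rfl⟩
      rw [zpow_mul, zpow_natCast, ← map_pow, hWp, map_one, one_zpow]
    have h3 : (π ⁅n, s⁆) ^ (2 : ℤ) = 1 := by
      have h4 : (π ⁅n, s⁆) ^ (l - 1) = 1 := by rw [zpow_sub, zpow_one, h1, mul_inv_cancel]
      rw [show (2 : ℤ) = (l + 1) - (l - 1) by ring, zpow_sub, h2 _ hl, h4, inv_one, mul_one]
    refine (QuotientGroup.eq_one_iff _).1 ?_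
    obtain ⟨k, hk⟩ : ∃ k, p = 2 * k + 1 := hpp.odd_of_ne_two hp2
    have h5 := h2 (p : ℤ) dvd_rfl
    rw [show (p : ℤ) = 2 * (k : ℤ) + 1 by exact_mod_cast hk, zpow_add, zpow_mul, h3, one_zpow,
      zpow_one, one_mul] at h5
    exact h5
  have hJW : ∀ g : S, ∀ j ∈ J, ⁅g, j⁆ ∈ W := by
    intro g j hj
    refine comm_mem_of_commute_mk ?_
    obtain ⟨i, g0, hg0, rfl⟩ := hdS g (Subgroup.mem_top g)
    obtain ⟨a, d, hd, rfl⟩ := hdJ j hj
    rw [QuotientGroup.mk_mul, QuotientGroup.mk_mul, QuotientGroup.mk_zpow, QuotientGroup.mk_zpow]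
    refine Commute.mul_left (Commute.mul_right ?_ ?_) (Commute.mul_right ?_ ?_)
    · exact ((commute_of_conj_mk (by rw [← commutatorElement_inv]; exact W.inv_mem hns)).zpow_left i).zpow_right a
    · exact (commute_of_conj_mk (hDW s d hd)).zpow_left i
    · exact (commute_of_conj_mk (hNW g0 hg0 n (hJN hnJ))).zpow_right a
    · exact commute_of_conj_mk (hDW g0 d hd)
  have hxn : ¬ Commute xS n := by
    intro h
    obtain ⟨i, e, he, hne⟩ := hdN n (hJN hnJ)
    refine hnE ?_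
    rw [hne] at h ⊢
    refine En.mul_mem ((hpowN i).2 (hdvdw i (mul_left_cancel (a := xS) ?_))) he
    calc xS * wS ^ i = bS ^ i * xS * (bS ^ i)⁻¹ :=
          (conj_iter hbx' (hDcen bS hbN' wS hwD') i).symm
      _ = bS ^ i * (e * xS * e⁻¹) * (bS ^ i)⁻¹ := by
          rw [(hab' e he xS hxE').eq, mul_inv_cancel_right]
      _ = (bS ^ i * e) * xS * (bS ^ i * e)⁻¹ := by group
      _ = xS * 1 := by rw [← h.eq, mul_inv_cancel_right, mul_one]
  refine ⟨W, D, J, N, xS, n, wS, cS, s,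
    ⟨hWc, hDcard, hJc, hNc, hWn, hDn, hJn, hWD, hDJ, hJN, mem_zpowers wS, hcD', fun h => hcw ?_,
      hEnN hxE', hnJ, hnD, hs, rfl, hexp' _ hxE', hexp' _ (hDEn hcD'), hDcen, hxn, hNW, hZS, hJW⟩,
    fun hp5 => ?_⟩
  · obtain ⟨i, hi⟩ := mem_zpowers_iff.1 h
    exact mem_zpowers_iff.2 ⟨i, by rw [← hwS, ← hcS, ← hi]; simp⟩
  · obtain ⟨-, -, -, b', x', w', c', D', -, -, hD'E, hD'c, -, -, -, -, -, -, -, hD'N, hD'M, -, -⟩ :=
      elem_cube_top hS hF hp5 hE hab hexp hEc hcard.ge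
    rw [← hN0, hNN] at hD'M
    haveI := finite_of_le (hD'E.trans hES)
    have hD'D : D' = D0 := by
      refine eq_of_le_of_card_ge (fun d hd => ?_) (by rw [hDc, hD'c])
      refine mem_subgroupOf.1 (hZN ⟨d, hES (hD'E hd)⟩ (mem_subgroupOf.2 (hEN (hD'E hd)))
        fun m hm => Subtype.ext (hD'N m hm d hd))
    intro d hd
    exact mem_center_iff.2 fun g => Subtype.ext (hD'M g g.2 d (hD'D ▸ mem_subgroupOf.1 hd))

end Cfsg.Agent.FusFive
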