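import Cfsg.Agent.FusFive.Cube
import Cfsg.Agent.FusSys.EssentialCube
import Cfsg.Agent.FusSys.EssentialFour
import Cfsg.Agent.FusSys.EssentialSmall
import Cfsg.Agent.FusSys.SmallCentral
import Cfsg.Agent.FusSys.Criteria

/-!
A system on a group of order `p ^ 5` that is reduced in the sense considered has a pearl of order `p ^ 2`.
-/

set_option autoImplicit false

namespace Cfsg.Agent.FusFive

open Cfsg Cfsg.FusionSystem Cfsg.Agent.FusSys Subgroup
open scoped commutatorElement

universe u

variable {Ω : Type u} [Group Ω] {S : Subgroup Ω} {F : FusionSystem S} {p : ℕ} [hp : Fact p.Prime]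
variable [Finite S]

omit hp in
/-- An automorphism preserves the image of a characteristic subgroup. -/
theorem apl_mem_of_char {P : Subgroup Ω} {A : Subgroup P} [A.Characteristic] (α : MulAut P) {x : Ω}
    (hx : x ∈ A.map P.subtype) : apl α x ∈ A.map P.subtype := by
  obtain ⟨a, ha, rfl⟩ := hx
  exact ⟨α a, (Four.apply_mem_iff α a).2 ha, (apl_coe α a).symm⟩

omit [Finite S] in
/-- Orders of essential subgroups lie between `p ^ 2` and `p ^ 4`. -/
theorem essential_card [Finite S] (hS : IsPGroup p S) (hF : F.IsSaturated p) (hcard : Nat.card S = p ^ 5)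
    {P : Subgroup Ω} (hP : F.IsEssential p P) :
    Nat.card P = p ^ 2 ∨ Nat.card P = p ^ 3 ∨ Nat.card P = p ^ 4 := by
  have hpp := hp.out
  have hPS := hP.1.1
  haveI := finite_of_le hPS
  obtain ⟨k, hk⟩ := IsPGroup.iff_card.1 (hS.to_le hPS)
  have hne : P ≠ S := fun e => SmallCentral.not_essential_top' hS hF (e ▸ hP)
  have hlt := card_lt_of_lt' le_rfl (lt_of_le_of_ne hPS hne)
  rw [hk, hcard] at hlt
  have hk5 := (Nat.pow_lt_pow_iff_right hpp.one_lt).1 hlt
  have hk2 : 2 ≤ k := by
    by_contra hk2
    have hP1 : Nat.card P ≤ p := hk ▸ (Nat.pow_le_pow_right hpp.pos (show k ≤ 1 by omega)).trans (pow_one p).le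
    haveI : Nontrivial S := Finite.one_lt_card_iff_nontrivial.1 (hcard ▸ one_lt_pow₀ hpp.one_lt (by norm_num))
    haveI := hS.center_nontrivial
    have hZP : (center S).map S.subtype ≤ P := by
      rintro _ ⟨z, hz, rfl⟩
      exact centric_self hP.1 ⟨z.2, mem_centralizer_iff.2 fun a ha =>
        congrArg Subtype.val (mem_center_iff.1 hz ⟨a, hPS ha⟩)⟩
    obtain ⟨m, hm⟩ := IsPGroup.iff_card.1 (hS.to_subgroup (center S))
    have h1 : p ≤ Nat.card (center S) := by
      rw [hm]
      refine (pow_one p).ge.trans (Nat.pow_le_pow_right hpp.pos (Nat.pos_of_ne_zero fun e => ?_))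
      rw [e, pow_zero] at hm
      exact (Finite.one_lt_card (α := center S)).ne' hm
    have heq : (center S).map S.subtype = P := eq_of_le_of_card_ge hZP (by
      rw [card_map_of_injective S.subtype_injective]; exact hP1.trans h1)
    have htop : (⊤ : Subgroup S) ≤ P.subgroupOf S := fun g _ => mem_subgroupOf.2
      (centric_self hP.1 ⟨g.2, mem_centralizer_iff.2 fun a ha => by
        rw [← heq] at ha
        obtain ⟨z, hz, rfl⟩ := ha
        exact congrArg Subtype.val (mem_center_iff.1 hz g).symm⟩)
    have h2 := Subgroup.card_le_of_le htop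
    rw [card_top, hcard, Nat.card_congr (subgroupOfEquivOfLe hPS).toEquiv] at h2
    have := (Nat.pow_le_pow_iff_right hpp.one_lt).1 ((h2.trans hP1).trans (pow_one p).ge)
    omega
  rcases (by omega : k = 2 ∨ k = 3 ∨ k = 4) with rfl | rfl | rfl
  · exact Or.inl hk
  · exact Or.inr (Or.inl hk)
  · exact Or.inr (Or.inr hk)

/-- A pearl exists. -/
theorem exists_pearl (hS : IsPGroup p S) (hF : F.IsSaturated p) (hp2 : p ≠ 2)
    (hcard : Nat.card S = p ^ 5) (hNA : NoAb p S) (hhyp : F.hyperfocalSubgroup p = S)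
    (hcore : F.core = ⊥) : ∃ E : Subgroup Ω, F.IsEssential p E ∧ Nat.card E = p ^ 2 := by
  classical
  by_contra hno
  push Not at hno
  have hpp := hp.out
  haveI : Nontrivial S := Finite.one_lt_card_iff_nontrivial.1 (hcard ▸ one_lt_pow₀ hpp.one_lt (by norm_num))
  haveI := hS.center_nontrivial
  set Z0 := (center S).map S.subtype with hZ0
  have hZ0S : Z0 ≤ S := map_subtype_le _
  haveI := finite_of_le hZ0S
  have hZ0c : p ≤ Nat.card Z0 := by
    obtain ⟨m, hm⟩ := IsPGroup.iff_card.1 (hS.to_subgroup (center S))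
    rw [hZ0, card_map_of_injective S.subtype_injective, hm]
    refine (pow_one p).ge.trans (Nat.pow_le_pow_right hpp.pos (Nat.pos_of_ne_zero fun e => ?_))
    rw [e, pow_zero] at hm
    exact (Finite.one_lt_card (α := center S)).ne' hm
  suffices hnorm : F.IsNormal Z0 by
    have h1 : Z0 = ⊥ := le_bot_iff.1 (hcore ▸ le_core hnorm)
    rw [h1, card_bot] at hZ0c
    have := hpp.two_le
    omega
  refine (isNormal_iff_essential hS hF).2 fun P hP => ?_
  have hZP : Z0 ≤ P := by
    rcases hP with rfl | hP
    · exact hZ0S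
    · rintro _ ⟨z, hz, rfl⟩
      exact centric_self hP.1 ⟨z.2, mem_centralizer_iff.2 fun a ha =>
        congrArg Subtype.val (mem_center_iff.1 hz ⟨a, hP.1.1 ha⟩)⟩
  suffices hmem : ∀ α : MulAut P, ∀ x ∈ Z0, apl α x ∈ Z0 by
    refine ⟨hZP, fun α _ => invariant_of_apl fun x hx => ⟨fun h => ?_, hmem α x⟩⟩
    have := hmem α⁻¹ _ h
    rwa [apl_inv_apl α hx] at this
  intro α x hx
  rcases hP with rfl | hP
  · exact apl_mem_of_char α hx
  have hPS := hP.1.1
  haveI := finite_of_le hPS
  have hZc : Z0 ≤ (center P).map P.subtype := by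
    intro z hz
    obtain ⟨z', hz', rfl⟩ := hz
    exact ⟨⟨z', hZP ⟨z', hz', rfl⟩⟩, mem_center_iff.2 fun a => Subtype.ext
      (congrArg Subtype.val (mem_center_iff.1 hz' ⟨a, hPS a.2⟩) :), rfl⟩
  haveI := finite_of_le ((map_subtype_le (center P)).trans hPS)
  rcases essential_card hS hF hcard hP with hk | hk | hk
  · exact absurd hk (hno P hP)
  · rcases essential_cube hS hF hP hk with hel | ⟨-, hex, -⟩ | ⟨h2, -⟩
    · exact (cube_false hS hF hp2 hcard hNA hhyp hP
        (fun a ha b hb => congrArg Subtype.val (hel.1.is_comm.comm ⟨a, ha⟩ ⟨b, hb⟩)) hel.2 hk).elim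
    · have e : Z0 = (center P).map P.subtype := eq_of_le_of_card_ge hZc (by
        rw [card_map_of_injective P.subtype_injective, hex.2]; exact hZ0c)
      rw [e] at hx ⊢
      exact apl_mem_of_char α hx
    · exact absurd h2 hp2
  · have hnab : ¬ IsMulCommutative P := fun hc => hNA.false_of_abelian (A := P.subgroupOf S)
      (by rw [Nat.card_congr (subgroupOfEquivOfLe hPS).toEquiv, hk, hcard, ← pow_succ'])
      fun a ha b hb => Subtype.ext
        (congrArg Subtype.val (hc.is_comm.comm ⟨(a : Ω), ha⟩ ⟨(b : Ω), hb⟩) :)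
    have hcc := Four.center_card hS hP hk hnab
    by_cases hbig : p ^ 2 ≤ Nat.card Z0
    · have e : Z0 = (center P).map P.subtype := eq_of_le_of_card_ge hZc (by
        rw [card_map_of_injective P.subtype_injective, hcc]; exact hbig)
      rw [e] at hx ⊢
      exact apl_mem_of_char α hx
    · -- the derived subgroup of `P` is the centre of `S`
      obtain ⟨-, hdc, -⟩ := Four.commutator_shape hk hcc
      set R := (_root_.commutator P).map P.subtype with hR
      have hRc : Nat.card R = p := by rw [hR, card_map_of_injective P.subtype_injective, hdc]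
      have hRP : R ≤ P := map_subtype_le _
      haveI := finite_of_le (hRP.trans hPS)
      haveI hPn : (P.subgroupOf S).Normal := by
        haveI := hS.isNilpotent
        refine Subgroup.normal_of_index_eq_minFac_card ?_
        have h2 := (P.subgroupOf S).card_mul_index
        rw [Nat.card_congr (subgroupOfEquivOfLe hPS).toEquiv, hk, hcard, pow_succ p 4] at h2
        rw [Nat.eq_of_mul_eq_mul_left (pow_pos hpp.pos 4) h2, hcard, Nat.pow_minFac (by norm_num),
          hpp.minFac_eq]
      haveI hRn : (R.subgroupOf S).Normal := ⟨fun a ha g => by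
        obtain ⟨γ, -, hγx⟩ := exists_mem_autInducedBy (P := P) (K := S) g.2
          (mem_normalizerIn_of_conj hPS g.2 fun b hb =>
            mem_subgroupOf.1 (hPn.conj_mem ⟨b, hPS hb⟩ hb g)).2
        refine mem_subgroupOf.2 ?_
        rw [Subgroup.coe_mul, Subgroup.coe_mul, InvMemClass.coe_inv]
        rw [← hγx (a : Ω) (hRP ha)]
        exact apl_mem_of_char γ ha⟩
      have hRZ : R ≤ Z0 := by
        haveI := hS.isNilpotent
        have hcR : Nat.card (R.subgroupOf S) = p :=
          (Nat.card_congr (subgroupOfEquivOfLe (hRP.trans hPS)).toEquiv).trans hRc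
        obtain ⟨z, ⟨hz, hzc⟩, hz1⟩ := (bot_or_exists_ne_one (R.subgroupOf S ⊓ center S)).resolve_left
          (Cfsg.Agent.Core.inf_center_ne_bot fun e => by
            rw [e, card_bot] at hcR
            exact hpp.one_lt.ne hcR)
        intro y hy
        obtain ⟨i, hi⟩ := mem_zpowers_iff.1 (mem_zpowers_of_prime_card hcR
          (g := (⟨z, hz⟩ : R.subgroupOf S))
          (g' := ⟨⟨y, hPS (hRP hy)⟩, hy⟩) (fun e => hz1 (congrArg Subtype.val e)))
        exact ⟨z ^ i, (center S).zpow_mem hzc i, by
          simpa using congrArg (fun t : R.subgroupOf S => ((t : S) : Ω)) hi⟩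
      have e : R = Z0 := eq_of_le_of_card_ge hRZ (by
        obtain ⟨m, hm⟩ := IsPGroup.iff_card.1 (hS.to_le hZ0S)
        rw [hRc, hm]
        refine (Nat.pow_le_pow_right hpp.pos ?_).trans (pow_one p).le
        by_contra h2
        exact hbig (hm ▸ Nat.pow_le_pow_right hpp.pos (not_le.1 h2)))
      rw [← e] at hx ⊢
      exact apl_mem_of_char α hx

end Cfsg.Agent.FusFive
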