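import Cfsg.Agent.FusFive.Pearl
import Cfsg.Agent.FusSys.EssentialCube
import Cfsg.Agent.FusSys.EssentialFour

/-!
Essential subgroups of order `p ^ 3` that are extraspecial, in maximal class of order `p ^ 5`.
-/

set_option autoImplicit false
set_option maxHeartbeats 400000

namespace Cfsg.Agent.FusFive

open Cfsg Cfsg.FusionSystem Cfsg.Agent.FusSys Subgroup
open Cfsg.Agent.MaxClass.TwoStep
open Cfsg.Agent.MaxClass.Graded (L_anti L_comm L_comm_x)
open scoped commutatorElement

universe u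

variable {Ω : Type u} [Group Ω] {S : Subgroup Ω} {F : FusionSystem S} {p : ℕ} [hp : Fact p.Prime]
variable [Finite S]

omit [Finite S] in
/-- In a subgroup containing commutators, squares detect elements. -/
theorem mem_of_sq {X : Type*} [Group X] (hp3 : 3 ≤ p) {M : Subgroup X} {y : X} (h2 : y ^ 2 ∈ M)
    (h3 : y ^ p ∈ M) : y ∈ M := by
  obtain ⟨t, ht⟩ := hp.out.odd_of_ne_two (by omega)
  rw [ht, pow_succ, pow_mul] at h3
  have h4 := M.mul_mem (M.inv_mem (M.pow_mem h2 t)) h3
  rwa [inv_mul_cancel_left] at h4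

omit hp in
/-- Automorphisms trivial modulo a fixed subgroup have order dividing the exponent. -/
theorem pow_eq_one_of_trivial_mod {P : Type*} [Group P] {Z : Subgroup P} {α : MulAut P}
    (hfix : ∀ z ∈ Z, α z = z) (hmod : ∀ a, a⁻¹ * α a ∈ Z) {n : ℕ} (hexp : ∀ z ∈ Z, z ^ n = 1) :
    α ^ n = 1 := by
  refine MulEquiv.ext fun a => ?_
  have key : ∀ k : ℕ, (α ^ k) a = a * (a⁻¹ * α a) ^ k := by
    intro k
    induction k with
    | zero => simp
    | succ k ih =>
      rw [pow_succ', MulAut.mul_apply, ih, map_mul, map_pow, hfix _ (hmod a), pow_succ',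
        ← mul_assoc a, mul_inv_cancel_left]
  rw [key, hexp _ (hmod a), mul_one, MulAut.one_apply]

/-- An extraspecial essential subgroup of order `p ^ 3` has the shape `⟨y⟩ L 2`. -/
theorem extra_shape (h : MCl p 5 S) (hp3 : 3 ≤ p) {P : Subgroup Ω} (hP : F.IsCentric P)
    (hPc : Nat.card P = p ^ 3) (hex : IsExtraspecial p P) :
    ∃ y : S, y ∉ K (S : Type u) 1 ∧ P.subgroupOf S = stepSub y 2 ∧
      ∀ z : P, z ∈ center P → ∃ w ∈ (⊤ : Subgroup S).lowerCentralSeries 3, (w : Ω) = z := by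
  have hpp := hp.out
  have hPS := hP.1
  haveI := finite_of_le hPS
  have hQc : Nat.card (P.subgroupOf S) = p ^ 3 :=
    (Nat.card_congr (subgroupOfEquivOfLe hPS).toEquiv).trans hPc
  set Z : Subgroup S := ((center P).map P.subtype).subgroupOf S with hZ
  have hZmem : ∀ (a : S) (ha : (a : Ω) ∈ P), a ∈ Z ↔ (⟨a, ha⟩ : P) ∈ center P := fun a ha => by
    rw [hZ, mem_subgroupOf]
    exact ⟨fun ⟨z, hz, e⟩ => (Subtype.ext e : z = ⟨a, ha⟩) ▸ hz, fun hz => ⟨_, hz, rfl⟩⟩
  have hZc : Nat.card Z = p := by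
    rw [hZ, Nat.card_congr (subgroupOfEquivOfLe ((map_subtype_le _).trans hPS)).toEquiv,
      card_map_of_injective P.subtype_injective, hex.2]
  have hcen : ∀ a : S, (ha : (a : Ω) ∈ P) → (∀ b : S, (b : Ω) ∈ P → Commute b a) → a ∈ Z :=
    fun a ha hc => (hZmem a ha).2 (mem_center_iff.2 fun b => Subtype.ext
      (congrArg Subtype.val (hc ⟨b, hPS b.2⟩ b.2).eq :))
  obtain ⟨y, hyP, hy⟩ : ∃ y ∈ P.subgroupOf S, y ∉ K (S : Type u) 1 := by
    by_contra! hall
    have hL2 := lcs_two_le h hp3 hP hall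
    have h1 := Subgroup.card_le_of_le (show (⊤ : Subgroup S).lowerCentralSeries 2 ≤ Z from fun z hz =>
      hcen z (mem_subgroupOf.1 (hL2 hz)) fun b hb =>
        (k_facts h hp3).2.2.1 b (hall b (mem_subgroupOf.2 hb)) z hz)
    rw [hZc, h.cardL (by norm_num)] at h1
    exact absurd ((Nat.pow_le_pow_iff_right hpp.one_lt).1 (h1.trans (pow_one p).ge)) (by norm_num)
  have hL3P : ∀ z ∈ (⊤ : Subgroup S).lowerCentralSeries 3, (z : Ω) ∈ P := fun z hz =>
    mem_of_commute_centric hP fun a _ => lcs_three_central h hz a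
  have hZ3 : (⊤ : Subgroup S).lowerCentralSeries 3 = Z := eq_of_le_of_card_ge
    (fun z hz => hcen z (hL3P z hz) fun b _ => lcs_three_central h hz b)
    (by rw [hZc, h.cardL (by norm_num), show 5 - 1 - 3 = 1 by rfl, pow_one])
  refine ⟨y, hy, eq_of_le_of_card_ge (fun a ha => ?_) (by
    show Nat.card ↥(stepSub y 2) ≤ _
    rw [card_tower h hp3 hy (by norm_num), hQc]), fun z hz => ?_⟩
  · obtain ⟨hd, -, -⟩ := decomp h.pgrp (le_top : K (S : Type u) 1 ≤ ⊤)
      (by rw [card_top, h.cardX, (k_facts h hp3).1]; ring) (Subgroup.mem_top y) hy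
    obtain ⟨i, u, hu, rfl⟩ := hd a (Subgroup.mem_top a)
    refine mul_mem (zpow_mem (x_mem_stepSub y 2) i) (lcs_le_stepSub y 2 ?_)
    have huP : u ∈ P.subgroupOf S := (mul_mem_cancel_left ((P.subgroupOf S).zpow_mem hyP i)).1 ha
    have h3 : ⁅y, u⁆ ∈ (⊤ : Subgroup S).lowerCentralSeries 3 := by
      rw [hZ3, hZmem _ (mem_subgroupOf.1 (show ⁅y, u⁆ ∈ P.subgroupOf S by
        rw [commutatorElement_def]
        exact mul_mem (mul_mem (mul_mem hyP huP) (inv_mem hyP)) (inv_mem huP)))]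
      have h4 := commutator_mem_commutator (Subgroup.mem_top (⟨(y : Ω), mem_subgroupOf.1 hyP⟩ : P))
        (Subgroup.mem_top (⟨(u : Ω), mem_subgroupOf.1 huP⟩ : P))
      rw [← _root_.commutator_def, hex.1.2.2] at h4
      exact h4
    have hu1 : u ∈ (⊤ : Subgroup S).lowerCentralSeries 1 := by
      by_contra hu1
      exact first_layer h hp3 hy hu hu1 (L_anti (by norm_num) h3)
    by_contra hu2
    exact (outside h hp3 hy).1 u hu1 hu2 h3
  · refine ⟨⟨z, hPS z.2⟩, ?_, rfl⟩
    rw [hZ3]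
    exact (hZmem _ z.2).2 hz

/-- A fixed homomorphism kills extraspecial essential subgroups of order `p ^ 3`, `p` odd. -/
theorem extra_le (hS : IsPGroup p S) (hF : F.IsSaturated p) (h : MCl p 5 S) (hp3 : 3 ≤ p)
    {P : Subgroup Ω} (hP : F.IsEssential p P) (hPc : Nat.card P = p ^ 3) (hex : IsExtraspecial p P)
    (hexp : ∀ x ∈ P, x ^ p = 1) {M : Subgroup S} (hM : _root_.commutator S ≤ M)
    (hMinv : ∀ α ∈ F.autGroup S, ∀ a : S, a⁻¹ * α a ∈ M) :
    P.subgroupOf S ≤ M := by
  classical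
  have hpp := hp.out
  have hPS := hP.1.1
  haveI := finite_of_le hPS
  obtain ⟨y, hy, hQ, hzc⟩ := extra_shape h hp3 hP.1 hPc hex
  have hM1 : ∀ j, 1 ≤ j → (⊤ : Subgroup S).lowerCentralSeries j ≤ M := fun j hj =>
    (L_anti hj).trans (show (⊤ : Subgroup S).lowerCentralSeries 1 ≤ M from hM)
  have hexp' : ∀ a : P, a ^ p = 1 := fun a => Subtype.ext (by
    rw [SubmonoidClass.coe_pow, OneMemClass.coe_one]; exact hexp a a.2)
  -- an automorphism inverting the quotient by the centre
  have hq : Nat.card (P ⧸ center P) = p ^ 2 := by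
    have h1 := (center P).card_mul_index
    rw [hex.2, hPc, index_eq_card] at h1
    exact Nat.eq_of_mul_eq_mul_left hpp.pos (h1.trans (by ring))
  obtain ⟨a₁, a₂, ha1, ha2, -, htor⟩ := plane_torus hS hF hP (center P) hq
    (fun a => by rw [hexp' a]; exact one_mem _) hex.1.2.2.le
    (fun α hα => pow_eq_one_of_trivial_mod (Z := center P) (fun z hz => by
      have hle : _root_.commutator P ≤ (α.toMonoidHom).eqLocus (MonoidHom.id P) := by
        rw [_root_.commutator_def, commutator_le]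
        intro a _ b _
        show α ⁅a, b⁆ = ⁅a, b⁆
        obtain ⟨c, hc, hac⟩ : ∃ c ∈ center P, α a = a * c := ⟨_, hα a, (mul_inv_cancel_left a _).symm⟩
        obtain ⟨d, hd, hbd⟩ : ∃ d ∈ center P, α b = b * d := ⟨_, hα b, (mul_inv_cancel_left b _).symm⟩
        rw [map_commutatorElement α, hac, hbd, comm_mul_mul]
        · exact (mem_center_iff.1 hc _).symm
        · exact mem_center_iff.1 hd a
      exact hle (hex.1.2.2.symm ▸ hz)) hα (fun z _ => hexp' z))
  obtain ⟨α, hα, hα1, hα2, hαn⟩ := htor (-1) (-1) (by norm_num)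
  -- it inverts everything modulo the centre
  have hinv : ∀ a : P, α a * a ∈ center P := by
    set π := QuotientGroup.mk' (center P) with hπ
    haveI : IsMulCommutative (P ⧸ center P) :=
      Subgroup.Normal.quotient_commutative_iff_commutator_le.2 hex.1.2.2.le
    let T : Subgroup P :=
      { carrier := {a | π (α a) * π a = 1}
        one_mem' := by simp
        mul_mem' := fun {a b} ha hb => by
          show π (α (a * b)) * π (a * b) = 1
          rw [map_mul α, map_mul π, map_mul π, mul_assoc, IsMulCommutative.is_comm.comm (π a) (π b),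
            ← mul_assoc (π (α b)), show π (α b) * π b = 1 from hb, one_mul]
          exact ha
        inv_mem' := fun {a} ha => by
          show π (α a⁻¹) * π a⁻¹ = 1
          rw [map_inv α, map_inv π, map_inv π, ← mul_inv_rev, IsMulCommutative.is_comm.comm (π a),
            show π (α a) * π a = 1 from ha, inv_one] }
    have hT : ∀ a : P, a ∈ T ↔ α a * a ∈ center P := fun a => by
      show π (α a) * π a = 1 ↔ _
      rw [← map_mul]; exact QuotientGroup.eq_one_iff _
    have hRT : center P ≤ T := fun r hr =>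
      (hT r).2 (mul_mem ((Four.apply_mem_iff α r).2 hr) hr)
    have hmemT : ∀ a : P, (a ^ (-1 : ℤ))⁻¹ * α a ∈ center P → a ∈ T := fun a ha => (hT a).2 (by
      rw [zpow_neg_one, inv_inv] at ha
      have := Subgroup.Normal.conj_mem inferInstance _ ha a⁻¹
      rwa [inv_mul_cancel_left, inv_inv] at this)
    have hsur : T.map π = ⊤ := by
      set V := T.map π with hV
      obtain ⟨j, hj2, hj⟩ := (Nat.dvd_prime_pow hpp).1 (hq ▸ card_subgroup_dvd_card V)
      refine eq_top_of_le_card _ ?_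
      rw [hq, hj]
      refine Nat.pow_le_pow_right hpp.pos ?_
      by_contra hlt
      have hjp : Nat.card V ≤ p := hj ▸ (Nat.pow_le_pow_right hpp.pos (show j ≤ 1 by omega)).trans (pow_one p).le
      have hord : orderOf (π a₁) = p := orderOf_eq_prime (by rw [← map_pow, hexp', map_one])
        fun e => ha1 ((QuotientGroup.eq_one_iff a₁).1 e)
      have he : zpowers (π a₁) = V := eq_of_le_of_card_ge (zpowers_le.2 (mem_map_of_mem _ (hmemT a₁ hα1)))
        (by rw [Nat.card_zpowers, hord]; exact hjp)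
      obtain ⟨i, hi⟩ := mem_zpowers_iff.1 (he ▸ mem_map_of_mem π (hmemT a₂ hα2) : π a₂ ∈ zpowers (π a₁))
      rw [← map_zpow] at hi
      exact ha2 i (QuotientGroup.eq.1 hi)
    intro a
    obtain ⟨b, hb, hab⟩ := mem_map.1 (hsur ▸ Subgroup.mem_top (π a) : π a ∈ T.map π)

    refine (hT a).1 ?_
    rw [← mul_inv_cancel_left b a]
    exact mul_mem hb (hRT (QuotientGroup.eq.1 hab))
  -- extend to `S`
  have hT2 : (stepSub y 2).map S.subtype = P := by
    rw [← hQ, Subgroup.subgroupOf_map_subtype, inf_eq_left.2 hPS]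
  have hN : normalizerIn S P = (stepSub y 1).map S.subtype := by
    rw [← hT2]; exact tower_normalizer h hp3 hy (r := 1) (by norm_num)
  obtain ⟨g, hg, hgx⟩ := Cfsg.Agent.RankThreeEss.exists_extension hS hF hP.2.1 hα hαn
  have hgI : Iso F ((stepSub y 1).map S.subtype) ((stepSub y 1).map S.subtype) (apl g) :=
    hN ▸ iso_apl (normalizerIn_le S P) hg
  obtain ⟨-, f0, hf0, hf0x⟩ := climb hS hF h hp3 hy le_rfl (by norm_num) (hT2.symm ▸ hP.2.1) hgI
  rw [Nat.sub_self, tower_zero] at hf0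
  obtain ⟨φ, hφ, hφx⟩ := hf0.exists_mem_autGroup
  have hyP : (y : Ω) ∈ P := hT2 ▸ mem_map_of_mem _ (x_mem_stepSub y 2)
  have hφy : ((φ y : S) : Ω) = (α ⟨y, hyP⟩ : P) := by
    rw [← apl_coe φ y, hφx _ y.2, hf0x (y : Ω) (mem_map_of_mem S.subtype (x_mem_stepSub y 1)), hgx _ hyP,
      apl_apply α hyP]
  obtain ⟨w, hw, hwe⟩ := hzc _ (hinv ⟨y, hyP⟩)
  have h1 : φ y * y ∈ M := by
    rw [show φ y * y = w from Subtype.ext (by rw [Subgroup.coe_mul, hφy, hwe, Subgroup.coe_mul])]
    exact hM1 3 (by norm_num) hw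
  have hy2 : y ^ 2 ∈ M := by
    haveI : M.Normal := Subgroup.Normal.of_commutator_le _ hM
    have h2 := mul_mem (inv_mem (hMinv φ hφ y)) (Subgroup.Normal.conj_mem inferInstance _ h1 y⁻¹)
    have e : (y⁻¹ * φ y)⁻¹ * (y⁻¹ * (φ y * y) * y⁻¹⁻¹) = y ^ 2 := by rw [pow_two]; group
    rwa [e] at h2
  rw [hQ]
  exact sup_le (zpowers_le.2 (mem_of_sq hp3 hy2 (hM1 3 (by norm_num) (outside h hp3 hy).2.2.2)))
    (hM1 2 (by norm_num))

end Cfsg.Agent.FusFive
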