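import Cfsg.Agent.FusFive.Extra
import Cfsg.Agent.FusSys.EssentialChain
import Cfsg.Agent.MaxClass.Pearl

/-!
No essential subgroup of order `p ^ 4` exists in maximal class of order `p ^ 5` without abelian
subgroup of index `p`, when `p = 3`.
-/

set_option autoImplicit false
set_option maxHeartbeats 400000

namespace Cfsg.Agent.FusFive

open Cfsg Cfsg.FusionSystem Cfsg.Agent.FusSys Subgroup
open Cfsg.Agent.MaxClass.TwoStep
open Cfsg.Agent.MaxClass.Graded (L_anti L_comm L_comm_x MX pow_congr mx_of_class)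
open scoped commutatorElement

universe u

variable {p : ℕ} [hp : Fact p.Prime]

section Groups

variable {X : Type u} [Group X] [Finite X]

/-- Outside `K 1` the centralizer is `⟨y⟩ L 3`. -/
theorem centralizer_outside (h : MCl p 5 X) (hp3 : 3 ≤ p) {y g : X} (hy : y ∉ K X 1)
    (hg : Commute y g) : g ∈ stepSub y 3 := by
  obtain ⟨hd, -, -⟩ := decomp h.pgrp (le_top : K X 1 ≤ ⊤)
    (by rw [card_top, h.cardX, (k_facts h hp3).1]; ring) (Subgroup.mem_top y) hy
  obtain ⟨i, u, hu, rfl⟩ := hd g (Subgroup.mem_top g)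
  have hc : Commute y u := by
    simpa using ((Commute.self_zpow y i).inv_right).mul_right hg
  refine mul_mem (zpow_mem (x_mem_stepSub y 3) i) (lcs_le_stepSub y 3 ((outside h hp3 hy).2.2.1 u ?_ hc))
  by_contra hu1
  exact first_layer h hp3 hy hu hu1 (by rw [commutatorElement_eq_one_iff_mul_comm.2 hc.eq]; exact one_mem _)

/-- For `p = 3`, an element of `K 1` has `p`-th power in `L 3` only inside `L 1`. -/
theorem pow_mem_three_iff (h : MCl p 5 X) (hp3 : 3 ≤ p) (hple : p ≤ 3) {y : X} (hy : y ∉ K X 1)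
    (hcy : Nat.card ↥(centralizer ({y} : Set X)) = p ^ 2) {a : X} (ha : a ∈ K X 1) :
    a ^ p ∈ (⊤ : Subgroup X).lowerCentralSeries 3 ↔ a ∈ (⊤ : Subgroup X).lowerCentralSeries 1 := by
  have hmx : MX p 5 y := mx_of_class h.cardX (by norm_num) h.cl hcy
  refine ⟨fun hap => ?_, fun ha1 => L_anti (by omega) (hmx.pow_mem 1 le_rfl a ha1).1⟩
  by_contra ha1
  obtain ⟨-, -, -, hKK⟩ := k_facts h hp3
  set c := ⁅y, a⁆ with hc
  have hc1 : c ∈ (⊤ : Subgroup X).lowerCentralSeries 1 :=
    L_comm (i := 0) (j := 0) (Subgroup.mem_top y) (Subgroup.mem_top a)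
  have hc2 : c ∉ (⊤ : Subgroup X).lowerCentralSeries 2 := first_layer h hp3 hy ha ha1
  have hK2 : (K X 1).lowerCentralSeries (p - 1) ≤ ⊥ := by
    refine (Subgroup.lowerCentralSeries_antitone _ (show 2 ≤ p - 1 by omega)).trans ?_
    rw [show (K X 1).lowerCentralSeries 2 = ⁅⁅K X 1, K X 1⁆, K X 1⁆ from rfl, commutator_le]
    intro u hu v _
    have hu3 : u ∈ (⊤ : Subgroup X).lowerCentralSeries 3 := commutator_le.2 hKK hu
    exact mem_bot.2 (commutatorElement_eq_one_iff_mul_comm.2 (lcs_three_central h hu3 v).eq.symm)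
  have hpow : ∀ u ∈ ⁅K X 1, K X 1⁆, u ^ p ∈ (⊥ : Subgroup X) := fun u hu => mem_bot.2 (by
    have hu3 : u ∈ (⊤ : Subgroup X).lowerCentralSeries 3 := commutator_le.2 hKK hu
    have h1 := congrArg Subtype.val (pow_card_eq_one' (x := (⟨u, hu3⟩ : ↥((⊤ : Subgroup X).lowerCentralSeries 3))))
    rw [h.cardL (by norm_num), show 5 - 1 - 3 = 1 by rfl, pow_one, SubmonoidClass.coe_pow,
      OneMemClass.coe_one] at h1
    exact h1)
  have h1 := mem_bot.1 (pow_congr (p := p) (K X 1) ⊥ hK2 hpow (h.L1_le_K 1 hc1) ha)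
  rw [inv_mul_eq_one] at h1
  have h2 : (c * a) ^ p = y * a ^ p * y⁻¹ := by
    rw [← conj_pow, show c * a = y * a * y⁻¹ by rw [hc, commutatorElement_def]; group]
  rw [h2, (lcs_three_central h hap y).eq, mul_inv_cancel_right, mul_eq_right] at h1
  exact hmx.pow_exact hp3 1 le_rfl (by omega) c hc1 hc2 (h1 ▸ one_mem _)

end Groups

variable {Ω : Type u} [Group Ω] {S : Subgroup Ω} {F : FusionSystem S} [Finite S]

/-- No essential subgroup of order `p ^ 4`. -/
theorem four_false (hS : IsPGroup p S) (h : MCl p 5 S) (hp3 : 3 ≤ p) (hple : p ≤ 3) (hNA : NoAb p S)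
    {y : S} (hy : y ∉ K (S : Type u) 1) {P : Subgroup Ω} (hP : F.IsEssential p P)
    (hPc : Nat.card P = p ^ 4) : False := by
  classical
  have hpp := hp.out
  have hPS := hP.1.1
  haveI := finite_of_le hPS
  obtain ⟨hKc, -, hcom, hKK⟩ := k_facts h hp3
  set Q := P.subgroupOf S with hQ
  have hQc : Nat.card Q = p ^ 4 := (Nat.card_congr (subgroupOfEquivOfLe hPS).toEquiv).trans hPc
  have hnab : ¬ IsMulCommutative P := fun hc => hNA.false_of_abelian (A := Q)
    (by rw [hQc, h.cardX, ← pow_succ'])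
    fun a ha b hb => Subtype.ext (congrArg Subtype.val (hc.is_comm.comm ⟨(a : Ω), ha⟩ ⟨(b : Ω), hb⟩) :)
  have hcc := Four.center_card hS hP hPc hnab
  obtain ⟨hcomle, hdc, -⟩ := Four.commutator_shape hPc hcc
  let ι : P →* S := Subgroup.inclusion hPS
  have hι : Function.Injective ι := Subgroup.inclusion_injective hPS
  have hcard : ∀ A : Subgroup P, Nat.card (A.map ι) = Nat.card A := fun A => card_map_of_injective hι
  have hrange : ∀ a : S, a ∈ Q → ∃ b : P, ι b = a := fun a ha => ⟨⟨a, mem_subgroupOf.1 ha⟩, rfl⟩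
  -- it is `K 1`
  have hQK : Q ≤ K (S : Type u) 1 := by
    intro a ha
    by_contra hak
    have hle : (center P).map ι ≤ stepSub a 3 := by
      rintro _ ⟨z, hz, rfl⟩
      obtain ⟨b, rfl⟩ := hrange a ha
      exact centralizer_outside h hp3 hak (Commute.map (mem_center_iff.1 hz b) ι)
    have he : (center P).map ι = stepSub a 3 := eq_of_le_of_card_ge hle (by
      show Nat.card ↥(stepSub a 3) ≤ _
      rw [card_tower h hp3 hak le_rfl, hcard, hcc])
    have hsub : Q ≤ stepSub a 3 := fun g hg => by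
      obtain ⟨z, hz, hza⟩ := mem_map.1 (he.symm ▸ x_mem_stepSub a 3 : a ∈ (center P).map ι)
      obtain ⟨b, rfl⟩ := hrange g hg
      refine centralizer_outside h hp3 hak ?_
      rw [← hza]
      exact (Commute.map (mem_center_iff.1 hz b) ι).symm
    have h1 := Subgroup.card_le_of_le hsub
    rw [hQc, card_tower h hp3 hak le_rfl] at h1
    exact absurd ((Nat.pow_le_pow_iff_right hpp.one_lt).1 h1) (by norm_num)
  have hQe : Q = K (S : Type u) 1 := eq_of_le_of_card_ge hQK (by rw [hKc, hQc])
  have hιK : ∀ b : P, ι b ∈ K (S : Type u) 1 := fun b => hQK (mem_subgroupOf.2 b.2)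
  have hcy : Nat.card ↥(centralizer ({y} : Set S)) = p ^ 2 := by
    have he : centralizer ({y} : Set S) = stepSub y 3 := by
      refine le_antisymm (fun g hg => centralizer_outside h hp3 hy
        (show Commute y g from (mem_centralizer_singleton_iff.1 hg).symm)) ?_
      exact sup_le (zpowers_le.2 (mem_centralizer_singleton_iff.2 rfl))
        fun z hz => mem_centralizer_singleton_iff.2 (lcs_three_central h hz y).eq.symm
    rw [he, card_tower h hp3 hy le_rfl]
  -- the derived subgroup is `L 3`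
  have hD : (_root_.commutator P).map ι = (⊤ : Subgroup S).lowerCentralSeries 3 := by
    refine eq_of_le_of_card_ge ?_ (by
      rw [hcard, hdc, h.cardL (by norm_num), show 5 - 1 - 3 = 1 by rfl, pow_one])
    rw [_root_.commutator_def, map_commutator, commutator_le]
    rintro _ ⟨a, -, rfl⟩ _ ⟨b, -, rfl⟩
    exact hKK _ (hιK a) _ (hιK b)
  have hpowD : ∀ b : P, b ^ p ∈ _root_.commutator P ↔ ι b ∈ (⊤ : Subgroup S).lowerCentralSeries 1 := fun b => by
    rw [← mem_map_iff_mem hι, hD, map_pow]
    exact pow_mem_three_iff h hp3 hple hy hcy (hιK b)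
  set A := ((⊤ : Subgroup S).lowerCentralSeries 1).comap ι with hA
  have hAc : Nat.card A = p ^ 3 := by
    rw [← hcard, hA, map_comap_eq, inf_eq_right.2 (fun a ha => hrange a (hQe ▸ h.L1_le_K 1 ha)),
      h.cardL le_rfl]
  have hZA : center P ≤ A := fun z hz => by
    obtain ⟨v, hv, hv'⟩ := h.ne_step (i := 1) le_rfl (by norm_num)
    obtain ⟨b, rfl⟩ := hrange v (hQe ▸ h.L1_le_K 1 hv)
    by_contra hz1
    exact pair_ne h hp3 hNA (hιK z) hz1 hv hv' (Commute.map (mem_center_iff.1 hz b).symm ι)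
  set D : ℕ → Subgroup P := fun i => if i = 0 then ⊥ else if i = 1 then _root_.commutator P
    else if i = 2 then center P else if i = 3 then A else ⊤ with hDd
  have hmono : Monotone D := monotone_nat_of_le_succ fun i => by
    match i with
    | 0 => exact bot_le
    | 1 => exact hcomle
    | 2 => exact hZA
    | 3 => exact le_top
    | i + 4 => exact le_top
  have hcD : ∀ i, i ≤ 4 → Nat.card (D i) = p ^ i := fun i hi => by
    match i with
    | 0 => exact (Subgroup.card_bot).trans (pow_zero p).symm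
    | 1 => exact hdc.trans (pow_one p).symm
    | 2 => exact hcc
    | 3 => exact hAc
    | 4 => exact card_top.trans hPc
    | i + 5 => omega
  refine not_essential_of_chain hS hmono (n := 4) rfl rfl (fun α _ i hi x => ?_) (fun i hi => ?_) hP
  · match i with
    | 0 => exact by simp [hDd]
    | 1 => exact Four.apply_mem_iff (A := _root_.commutator P) α x
    | 2 => exact Four.apply_mem_iff (A := center P) α x
    | 3 =>
      show ι (α x) ∈ (⊤ : Subgroup S).lowerCentralSeries 1 ↔ ι x ∈ (⊤ : Subgroup S).lowerCentralSeries 1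
      rw [← hpowD, ← hpowD, ← map_pow, Four.apply_mem_iff (A := _root_.commutator P)]
    | i + 4 => exact iff_of_true (Subgroup.mem_top _) (Subgroup.mem_top _)
  · have h1 := ((D i).subgroupOf (D (i + 1))).card_mul_index
    rw [Nat.card_congr (subgroupOfEquivOfLe (hmono (Nat.le_succ i))).toEquiv, hcD i (by omega),
      hcD (i + 1) hi, pow_succ] at h1
    exact (Nat.eq_of_mul_eq_mul_left (pow_pos hpp.pos i) h1).le

end Cfsg.Agent.FusFive
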