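import Mathlib.GroupTheory.PGroup
import Mathlib.GroupTheory.Nilpotent
import Mathlib.GroupTheory.SpecificGroups.Cyclic
import Mathlib.GroupTheory.Abelianization.Defs
import Mathlib.GroupTheory.IndexNormal

/-!
Elementary facts on groups of order `p ^ 5` without abelian subgroup of index `p`.
-/

set_option autoImplicit false

namespace Cfsg.Agent.FusFive

open Subgroup
open scoped commutatorElement

variable {X : Type*} [Group X] {p : ℕ} [hp : Fact p.Prime]

/-- No subgroup of index `p` is abelian. -/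
def NoAb (p : ℕ) (X : Type*) [Group X] : Prop :=
  ∀ A : Subgroup X, A.index = p → ¬ ∀ a ∈ A, ∀ b ∈ A, a * b = b * a

omit hp in
theorem comm_mul_mul {a g b h : X} (hg : Commute g (b * h)) (hh : Commute a h) :
    ⁅a * g, b * h⁆ = ⁅a, b⁆ := by
  calc ⁅a * g, b * h⁆ = a * (g * (b * h)) * g⁻¹ * a⁻¹ * (b * h)⁻¹ := by
        simp only [commutatorElement_def]; group
    _ = a * ((b * h) * g) * g⁻¹ * a⁻¹ * (b * h)⁻¹ := by rw [hg.eq]
    _ = a * b * (h * a⁻¹) * h⁻¹ * b⁻¹ := by group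
    _ = a * b * (a⁻¹ * h) * h⁻¹ * b⁻¹ := by rw [(hh.symm.inv_right).eq]
    _ = _ := by rw [commutatorElement_def]; group

omit hp in
/-- Commutators of powers when the commutator is central. -/
theorem comm_zpow {a b z : X} (hz : ⁅a, b⁆ = z) (ha : Commute a z) (hb : Commute b z) (i j : ℤ) :
    ⁅a ^ i, b ^ j⁆ = z ^ (i * j) := by
  have key : ∀ (m y u : X), m * y * m⁻¹ = u * y → Commute m u → ∀ k : ℤ,
      m ^ k * y * (m ^ k)⁻¹ = u ^ k * y := by
    intro m y u h hc k
    induction k using Int.induction_on with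
    | zero => simp
    | succ k ih =>
      calc m ^ ((k : ℤ) + 1) * y * (m ^ ((k : ℤ) + 1))⁻¹
          = m * (m ^ (k : ℤ) * y * (m ^ (k : ℤ))⁻¹) * m⁻¹ := by group
        _ = m * u ^ (k : ℤ) * m⁻¹ * (m * y * m⁻¹) := by rw [ih]; group
        _ = u ^ (k : ℤ) * (u * y) := by rw [(hc.zpow_right k).eq, mul_inv_cancel_right, h]
        _ = _ := by group
    | pred k ih =>
      have h2 : m⁻¹ * y * m = u⁻¹ * y := by
        calc m⁻¹ * y * m = u⁻¹ * (u * (m⁻¹ * y * m)) := by group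
          _ = u⁻¹ * (m⁻¹ * (u * y) * m) := by
            rw [show u * (m⁻¹ * y * m) = (u * m⁻¹) * (y * m) by group,
              show u * m⁻¹ = m⁻¹ * u from (hc.symm.inv_right).eq]
            group
          _ = u⁻¹ * (m⁻¹ * (m * y * m⁻¹) * m) := by rw [h]
          _ = _ := by group
      calc m ^ (-(k : ℤ) - 1) * y * (m ^ (-(k : ℤ) - 1))⁻¹
          = m⁻¹ * (m ^ (-(k : ℤ)) * y * (m ^ (-(k : ℤ)))⁻¹) * m := by group
        _ = m⁻¹ * u ^ (-(k : ℤ)) * m * (m⁻¹ * y * m) := by rw [ih]; group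
        _ = u ^ (-(k : ℤ)) * (u⁻¹ * y) := by
          rw [((hc.inv_left).zpow_right _).eq, inv_mul_cancel_right, h2]
        _ = _ := by group
  -- first in `a`, then in `b`
  have h1 : a * b * a⁻¹ = z * b := by rw [← hz, commutatorElement_def]; group
  have h2 := key a b z h1 ha i
  have h3 : b * a ^ i * b⁻¹ = (z ^ i)⁻¹ * a ^ i := by
    calc b * a ^ i * b⁻¹ = (z ^ i)⁻¹ * (z ^ i * b) * a ^ i * b⁻¹ := by group
      _ = (z ^ i)⁻¹ * (a ^ i * b * (a ^ i)⁻¹) * a ^ i * b⁻¹ := by rw [h2]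
      _ = _ := by group
  have h4 := key b (a ^ i) ((z ^ i)⁻¹) h3 (hb.zpow_right i).inv_right j
  calc ⁅a ^ i, b ^ j⁆ = a ^ i * (b ^ j * a ^ i * (b ^ j)⁻¹)⁻¹ := by
        rw [commutatorElement_def]; group
    _ = a ^ i * (((z ^ i)⁻¹) ^ j * a ^ i)⁻¹ := by rw [h4]
    _ = _ := by
      rw [inv_zpow, ← zpow_mul, mul_inv_rev, inv_inv, mul_inv_cancel_left]

omit hp in
theorem commute_of_conj_mk {N : Subgroup X} [N.Normal] {a b : X} (h : ⁅a, b⁆ ∈ N) :
    Commute (a : X ⧸ N) (b : X ⧸ N) :=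
  commutatorElement_eq_one_iff_mul_comm.1
    ((map_commutatorElement (QuotientGroup.mk' N) a b).symm.trans ((QuotientGroup.eq_one_iff _).2 h))

omit hp in
theorem comm_mem_of_commute_mk {N : Subgroup X} [N.Normal] {a b : X}
    (h : Commute (a : X ⧸ N) (b : X ⧸ N)) : ⁅a, b⁆ ∈ N :=
  (QuotientGroup.eq_one_iff _).1
    ((map_commutatorElement (QuotientGroup.mk' N) a b).trans (commutatorElement_eq_one_iff_mul_comm.2 h.eq))

variable [Finite X]

/-- A subgroup of index `p` in another one, and an element outside it. -/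
theorem decomp (hX : IsPGroup p X) {A B : Subgroup X} (hAB : A ≤ B)
    (hc : Nat.card B = p * Nat.card A) {b : X} (hb : b ∈ B) (hb' : b ∉ A) :
    (∀ y ∈ B, ∃ i : ℤ, ∃ a ∈ A, y = b ^ i * a) ∧ (∀ i : ℤ, b ^ i ∈ A ↔ (p : ℤ) ∣ i) ∧
      ∀ g ∈ B, ∀ a ∈ A, g * a * g⁻¹ ∈ A := by
  have hBp : IsPGroup p B := hX.to_subgroup B
  haveI := hBp.isNilpotent
  have hidx : (A.subgroupOf B).index = p := by
    have h2 := (A.subgroupOf B).card_mul_index
    rw [Nat.card_congr (subgroupOfEquivOfLe hAB).toEquiv, hc, mul_comm p] at h2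
    exact Nat.eq_of_mul_eq_mul_left Nat.card_pos h2
  haveI hn : (A.subgroupOf B).Normal := by
    refine Subgroup.normal_of_index_eq_minFac_card ?_
    obtain ⟨e, he⟩ := IsPGroup.iff_card.1 hBp
    have he0 : e ≠ 0 := by
      rintro rfl
      rw [pow_zero] at he
      haveI : Subsingleton B := (Nat.card_eq_one_iff_unique.1 he).1
      have e : b = 1 := congrArg Subtype.val (Subsingleton.elim (⟨b, hb⟩ : B) 1)
      exact hb' (e ▸ A.one_mem)
    rw [hidx, he, Nat.pow_minFac he0, hp.out.minFac_eq]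
  have hq : Nat.card (B ⧸ A.subgroupOf B) = p := by rw [← index_eq_card, hidx]
  have hne : ((⟨b, hb⟩ : B) : B ⧸ A.subgroupOf B) ≠ 1 := fun h =>
    hb' (mem_subgroupOf.1 ((QuotientGroup.eq_one_iff (⟨b, hb⟩ : B)).1 h))
  have hord : orderOf ((⟨b, hb⟩ : B) : B ⧸ A.subgroupOf B) = p :=
    orderOf_eq_prime (hq ▸ pow_card_eq_one') hne
  refine ⟨fun y hy => ?_, fun i => ?_, fun g hg a ha => ?_⟩
  · obtain ⟨i, hi⟩ := mem_zpowers_iff.1 (mem_zpowers_of_prime_card hq hne
      (g' := ((⟨y, hy⟩ : B) : B ⧸ A.subgroupOf B)))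
    rw [← QuotientGroup.mk_zpow] at hi
    exact ⟨i, (b ^ i)⁻¹ * y, by simpa using mem_subgroupOf.1 (QuotientGroup.eq.1 hi),
      (mul_inv_cancel_left _ _).symm⟩
  · have h1 : (p : ℤ) ∣ i ↔ (((⟨b, hb⟩ : B) : B ⧸ A.subgroupOf B)) ^ i = 1 := by
      rw [← hord, orderOf_dvd_iff_zpow_eq_one]
    rw [h1, ← QuotientGroup.mk_zpow, QuotientGroup.eq_one_iff, mem_subgroupOf]
    simp
  · simpa [mem_subgroupOf] using hn.conj_mem ⟨a, hAB ha⟩ ha ⟨g, hg⟩

/-- A central subgroup of index `p` makes a group abelian. -/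
theorem abelian_of_central (hX : IsPGroup p X) {J A : Subgroup X} (hJA : J ≤ A)
    (hc : Nat.card A = p * Nat.card J) (hcen : ∀ j ∈ J, ∀ a ∈ A, Commute j a) :
    ∀ a ∈ A, ∀ b ∈ A, a * b = b * a := by
  obtain ⟨t, htA, htJ⟩ : ∃ t ∈ A, t ∉ J := by
    by_contra! h
    have h1 := Subgroup.card_le_of_le (show A ≤ J from h)
    rw [hc] at h1
    have := hp.out.two_le
    have : 0 < Nat.card J := Nat.card_pos
    nlinarith
  intro a ha b hb
  obtain ⟨i, j, hj, rfl⟩ := (decomp hX hJA hc htA htJ).1 a ha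
  obtain ⟨i', j', hj', rfl⟩ := (decomp hX hJA hc htA htJ).1 b hb
  refine Commute.eq (Commute.mul_left (Commute.mul_right ?_ ?_) ((hcen j hj _ hb)))
  · exact Commute.zpow_zpow (Commute.refl t) i i'
  · exact ((hcen j' hj' _ (A.zpow_mem htA i))).symm

omit hp in
theorem NoAb.false_of_abelian (h : NoAb p X) {A : Subgroup X} (hc : p * Nat.card A = Nat.card X)
    (hab : ∀ a ∈ A, ∀ b ∈ A, a * b = b * a) : False := by
  refine h A ?_ hab
  have h1 := A.card_mul_index
  rw [← hc, mul_comm p] at h1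
  exact Nat.eq_of_mul_eq_mul_left Nat.card_pos h1

omit hp in
/-- An element all of whose commutators lie in `W` has centralizer of index at most `|W|`. -/
theorem centralizer_index_le {n : X} {W : Subgroup X} (h : ∀ g : X, ⁅g, n⁆ ∈ W) :
    (centralizer ({n} : Set X)).index ≤ Nat.card W := by
  let f : X ⧸ centralizer ({n} : Set X) → W := fun q => ⟨⁅q.out, n⁆, h q.out⟩
  have hf : Function.Injective f := by
    intro a b hab
    have h2 : a.out * n * a.out⁻¹ = b.out * n * b.out⁻¹ := by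
      have h4 : ⁅a.out, n⁆ = ⁅b.out, n⁆ := congrArg Subtype.val hab
      simpa [commutatorElement_def] using h4
    rw [← Quotient.out_eq a, ← Quotient.out_eq b]
    refine QuotientGroup.eq.2 (mem_centralizer_singleton_iff.2 ?_)
    calc a.out⁻¹ * b.out * n = a.out⁻¹ * (b.out * n * b.out⁻¹) * b.out := by group
      _ = a.out⁻¹ * (a.out * n * a.out⁻¹) * b.out := by rw [h2]
      _ = _ := by group
  rw [index_eq_card]
  exact Nat.card_le_card_of_injective f hf

/-- A proper centralizer with commutators in a subgroup of order `p` has index `p`. -/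
theorem centralizer_card (hX : IsPGroup p X) {n : X} {W : Subgroup X} (hW : Nat.card W = p)
    (h : ∀ g : X, ⁅g, n⁆ ∈ W) {g : X} (hg : ¬ Commute g n) :
    p * Nat.card (centralizer ({n} : Set X)) = Nat.card X := by
  have h1 := (centralizer ({n} : Set X)).card_mul_index
  obtain ⟨e, he⟩ := IsPGroup.iff_card.1 hX
  obtain ⟨j, -, hj⟩ := (Nat.dvd_prime_pow hp.out).1
    (he ▸ Dvd.intro_left _ h1 : (centralizer ({n} : Set X)).index ∣ p ^ e)
  have h2 := centralizer_index_le h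
  rw [hW, hj] at h2
  have hj0 : j ≠ 0 := by
    rintro rfl
    rw [pow_zero, index_eq_one] at hj
    exact hg (mem_centralizer_singleton_iff.1 (hj ▸ mem_top g))
  have hj1 : j ≤ 1 := (Nat.pow_le_pow_iff_right hp.out.one_lt).1 (h2.trans (pow_one p).ge)
  rw [← h1, hj, show j = 1 by omega, pow_one, mul_comm]

end Cfsg.Agent.FusFive
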