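import Cfsg.Agent.FusFive.Chain
import Cfsg.Agent.FusSys.NormTower
import Cfsg.Agent.FusSys.MaxClassCube

/-!
Automorphisms climb the tower `⟨y⟩ L 3 < ⟨y⟩ L 2 < ⟨y⟩ L 1 < S` in maximal class of order `p ^ 5`.
-/

set_option autoImplicit false
set_option maxHeartbeats 800000

namespace Cfsg.Agent.FusFive

open Cfsg Cfsg.FusionSystem Cfsg.Agent.FusSys Subgroup
open Cfsg.Agent.MaxClass.TwoStep
open Cfsg.Agent.MaxClass.Graded (L_anti L_comm L_comm_x)
open scoped commutatorElement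

universe u

variable {Ω : Type u} [Group Ω] {S : Subgroup Ω} {F : FusionSystem S} {p : ℕ} [hp : Fact p.Prime]
variable [Finite S]

/-- Orders in the tower. -/
theorem card_tower (h : MCl p 5 S) (hp3 : 3 ≤ p) {y : S} (hy : y ∉ K (S : Type u) 1) {r : ℕ} (hr : r ≤ 3) :
    Nat.card ↥(stepSub y r) = p ^ (5 - r) := by
  rcases Nat.eq_zero_or_pos r with rfl | hr1
  · have e : stepSub y 0 = ⊤ := eq_top_iff.2 fun a _ => lcs_le_stepSub y 0 (Subgroup.mem_top a)
    rw [e, card_top, h.cardX]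
  obtain ⟨-, -, -, hyp⟩ := outside h hp3 hy
  set N := (⊤ : Subgroup S).lowerCentralSeries r with hN
  have h1 := Cfsg.Agent.Core.card_map_mk_mul N (stepSub y r)
  rw [inf_eq_right.2 (lcs_le_stepSub y r), h.cardL hr1] at h1
  have hmap : (stepSub y r).map (QuotientGroup.mk' N) = zpowers (QuotientGroup.mk' N y) := by
    rw [stepSub, Subgroup.map_sup, MonoidHom.map_zpowers, (map_eq_bot_iff N).2 (QuotientGroup.ker_mk' N).ge,
      sup_bot_eq]
  have hne : QuotientGroup.mk' N y ≠ 1 := fun hy1 =>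
    hy (h.L1_le_K 1 (L_anti hr1 ((QuotientGroup.eq_one_iff y).1 hy1)))
  rw [hmap, Nat.card_zpowers, orderOf_eq_prime
    (by rw [← map_pow, QuotientGroup.mk'_apply, QuotientGroup.eq_one_iff]; exact L_anti hr hyp) hne,
    ← pow_succ'] at h1
  rw [← h1, show 5 - 1 - r + 1 = 5 - r by omega]

/-- The elements of `⟨y⟩ L r` in `L 1`. -/
theorem tower_inter (h : MCl p 5 S) (hp3 : 3 ≤ p) {y : S} (hy : y ∉ K (S : Type u) 1) {r : ℕ}
    (hr1 : 1 ≤ r) (hr : r ≤ 3) {a : S} (ha : a ∈ stepSub y r)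
    (ha' : a ∈ (⊤ : Subgroup S).lowerCentralSeries 1) : a ∈ (⊤ : Subgroup S).lowerCentralSeries r := by
  obtain ⟨i, l, hl, rfl⟩ := mem_stepSub.1 ha
  obtain ⟨-, -, -, hyp⟩ := outside h hp3 hy
  refine mul_mem ?_ hl
  have hd : (p : ℤ) ∣ i := by
    by_contra hni
    obtain ⟨m, q, hq⟩ := ThreeDim.exists_inv (p := p) i hni
    refine hy (h.L1_le_K 1 ?_)
    have h1 : y ^ i ∈ (⊤ : Subgroup S).lowerCentralSeries 1 := by
      have := mul_mem ha' (inv_mem (L_anti hr1 hl))
      rwa [mul_inv_cancel_right] at this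
    have h2 := zpow_mem h1 m
    rw [← zpow_mul, show i * m = p * q + 1 by omega, zpow_add, zpow_mul, zpow_natCast, zpow_one] at h2
    have h3 := mul_mem (inv_mem (zpow_mem (L_anti (show 1 ≤ 3 by norm_num) hyp) q)) h2
    rwa [inv_mul_cancel_left] at h3
  obtain ⟨q, rfl⟩ := hd
  rw [zpow_mul, zpow_natCast]
  exact zpow_mem (L_anti hr hyp) q

/-- Commutators inside the tower. -/
theorem tower_comm (y : S) (r : ℕ) {a b : S} (ha : a ∈ stepSub y r) (hb : b ∈ stepSub y r) :
    ⁅a, b⁆ ∈ (⊤ : Subgroup S).lowerCentralSeries (r + 1) := by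
  obtain ⟨i, l, hl, rfl⟩ := mem_stepSub.1 ha
  obtain ⟨j, l', hl', rfl⟩ := mem_stepSub.1 hb
  refine comm_mem_of_commute_mk ?_
  have hc : ∀ (g : S), ∀ m ∈ (⊤ : Subgroup S).lowerCentralSeries r,
      Commute (g : S ⧸ (⊤ : Subgroup S).lowerCentralSeries (r + 1)) (m : S ⧸ _) :=
    fun g m hm => commute_of_conj_mk (L_comm_x hm g)
  rw [QuotientGroup.mk_mul, QuotientGroup.mk_mul, QuotientGroup.mk_zpow, QuotientGroup.mk_zpow]
  exact Commute.mul_left (Commute.mul_right (Commute.zpow_zpow (Commute.refl _) i j)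
    ((hc y l' hl').zpow_left i)) (Commute.mul_right ((hc y l hl).symm.zpow_right j) (hc l l' hl'))

/-- The normalizers in the tower. -/
theorem tower_normalizer (h : MCl p 5 S) (hp3 : 3 ≤ p) {y : S} (hy : y ∉ K (S : Type u) 1) {r : ℕ}
    (hr : r ≤ 2) :
    normalizerIn S ((stepSub y (r + 1)).map S.subtype) = (stepSub y r).map S.subtype := by
  obtain ⟨hKc, -, -, -⟩ := k_facts h hp3
  obtain ⟨e1, -, -, -⟩ := outside h hp3 hy
  have hmem : ∀ g : S, (∀ a ∈ stepSub y (r + 1), g * a * g⁻¹ ∈ stepSub y (r + 1)) → g ∈ stepSub y r := by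
    intro g hg
    obtain ⟨hdS, -, -⟩ := decomp h.pgrp (le_top : K (S : Type u) 1 ≤ ⊤)
      (by rw [card_top, h.cardX, hKc]; ring) (Subgroup.mem_top y) hy
    obtain ⟨i, u, hu, rfl⟩ := hdS g (Subgroup.mem_top g)
    refine mul_mem (zpow_mem (x_mem_stepSub y r) i) (lcs_le_stepSub y r ?_)
    rcases Nat.eq_zero_or_pos r with rfl | hr1
    · exact Subgroup.mem_top u
    have hyi : y ^ i ∈ stepSub y (r + 1) := zpow_mem (x_mem_stepSub y (r + 1)) i
    have h1 : u * y * u⁻¹ ∈ stepSub y (r + 1) := by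
      have h2 := mul_mem (mul_mem (inv_mem hyi) (hg y (x_mem_stepSub y (r + 1)))) hyi
      rwa [show (y ^ i)⁻¹ * (y ^ i * u * y * (y ^ i * u)⁻¹) * y ^ i = u * y * u⁻¹ by group] at h2
    have h3 : ⁅u, y⁆ ∈ (⊤ : Subgroup S).lowerCentralSeries (r + 1) := by
      refine tower_inter h hp3 hy (by omega) (by omega) ?_
        (L_comm (i := 0) (j := 0) (Subgroup.mem_top u) (Subgroup.mem_top y))
      rw [commutatorElement_def]
      exact mul_mem h1 (inv_mem (x_mem_stepSub y (r + 1)))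
    have h4 : ⁅y, u⁆ ∈ (⊤ : Subgroup S).lowerCentralSeries (r + 1) := by
      rw [← commutatorElement_inv]; exact inv_mem h3
    have hu1 : u ∈ (⊤ : Subgroup S).lowerCentralSeries 1 := by
      by_contra hu1
      exact first_layer h hp3 hy hu hu1 (L_anti (by omega) h4)
    rcases (by omega : r = 1 ∨ r = 2) with rfl | rfl
    · exact hu1
    · by_contra hu2
      exact e1 u hu1 hu2 h4
  refine le_antisymm (fun g hg => ?_) ?_
  · refine ⟨⟨g, hg.1⟩, hmem _ fun a ha => ?_, rfl⟩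
    have h1 := (Subgroup.mem_normalizer_iff.1 hg.2 (a : Ω)).1 (mem_map_of_mem _ ha)
    exact mem_map_iff.1 h1
  · rintro _ ⟨g, hg, rfl⟩
    refine mem_normalizerIn_of_conj (map_subtype_le _) g.2 ?_
    rintro _ ⟨a, ha, rfl⟩
    exact ⟨g * a * g⁻¹, conj_stepSub hg ha, rfl⟩

/-- One step up the tower. -/
theorem climb (hS : IsPGroup p S) (hF : F.IsSaturated p) (h : MCl p 5 S) (hp3 : 3 ≤ p) {y : S}
    (hy : y ∉ K (S : Type u) 1) {r : ℕ} (hr1 : 1 ≤ r) (hr : r ≤ 2)
    (hfn : F.IsFullyNormalized ((stepSub y (r + 1)).map S.subtype))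
    {f : Ω → Ω} (hf : Iso F ((stepSub y r).map S.subtype) ((stepSub y r).map S.subtype) f) :
    F.IsFullyNormalized ((stepSub y r).map S.subtype) ∧
      ∃ f', Iso F ((stepSub y (r - 1)).map S.subtype) ((stepSub y (r - 1)).map S.subtype) f' ∧
        ∀ a ∈ (stepSub y r).map S.subtype, f' a = f a := by
  have hpp := hp.out
  obtain ⟨e1, e2, -, -⟩ := outside h hp3 hy
  -- deeper layers are invariant
  have hinv : ∀ f : Ω → Ω, Iso F ((stepSub y r).map S.subtype) ((stepSub y r).map S.subtype) f →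
      ∀ j, r + 1 ≤ j → ∀ a ∈ (⊤ : Subgroup S).lowerCentralSeries j,
        f a ∈ ((⊤ : Subgroup S).lowerCentralSeries j).map S.subtype := by
    intro f hf
    obtain ⟨g, hg, hgA, hmul, -⟩ := exists_restrict hf
    obtain ⟨hg1, -, hgc, hgz⟩ := restrict_facts hmul
    have hLA : ∀ {j}, r ≤ j → ∀ a ∈ (⊤ : Subgroup S).lowerCentralSeries j, a ∈ stepSub y r :=
      fun hj a ha => lcs_le_stepSub y r (L_anti hj ha)
    have hyA := x_mem_stepSub y r
    obtain ⟨v2, hv2, hv2'⟩ := h.ne_step (i := 2) (by norm_num) (by norm_num)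
    have hv3 : ⁅y, v2⁆ ∈ (⊤ : Subgroup S).lowerCentralSeries 3 := L_comm_x hv2 y
    have h3gen : ∀ a ∈ (⊤ : Subgroup S).lowerCentralSeries 3, ∃ i : ℤ, a = ⁅y, v2⁆ ^ i := by
      intro a ha
      obtain ⟨i, d, hd, rfl⟩ := h.decomp (i := 3) (by norm_num) hv3
        (fun e => e2 v2 hv2 hv2' (lcs_four h e le_rfl)) ha
      exact ⟨i, by rw [lcs_four h hd le_rfl, mul_one]⟩
    have hnext : ∀ j, r + 1 ≤ j → j ≤ 3 → ∀ a ∈ (⊤ : Subgroup S).lowerCentralSeries j,
        g a ∈ (⊤ : Subgroup S).lowerCentralSeries (r + 1) := by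
      intro j hj hj3 a ha
      have hstep3 : ∀ a ∈ (⊤ : Subgroup S).lowerCentralSeries 3,
          g a ∈ (⊤ : Subgroup S).lowerCentralSeries (r + 1) := by
        intro a ha
        obtain ⟨i, rfl⟩ := h3gen a ha
        have hvA := hLA (show r ≤ 2 by omega) v2 hv2
        have hcA : ⁅y, v2⁆ ∈ stepSub y r := hLA (by omega) _ hv3
        rw [hgz _ hcA, hgc _ hyA _ hvA]
        exact zpow_mem (tower_comm y r (hgA _ hyA) (hgA _ hvA)) i
      rcases (by omega : j = 2 ∨ j = 3) with rfl | rfl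
      · obtain rfl : r = 1 := by omega
        obtain ⟨v1, hv1, hv1'⟩ := h.ne_step (i := 1) le_rfl (by norm_num)
        have hvA := hLA (le_refl 1) v1 hv1
        have hc2 : ⁅y, v1⁆ ∈ (⊤ : Subgroup S).lowerCentralSeries 2 := L_comm_x hv1 y
        obtain ⟨i, d, hd, rfl⟩ := h.decomp (i := 2) (by norm_num) hc2 (e1 v1 hv1 hv1') ha
        rw [hmul _ (zpow_mem (hLA (by omega) _ hc2) i) _ (hLA (by omega) _ hd),
          hgz _ (hLA (by omega) _ hc2), hgc _ hyA _ hvA]
        exact mul_mem (zpow_mem (tower_comm y 1 (hgA _ hyA) (hgA _ hvA)) i) (hstep3 d hd)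
      · exact hstep3 a ha
    intro j hj a ha
    rcases Nat.lt_or_ge 3 j with hj3 | hj3
    · have e := lcs_four h ha hj3
      subst e
      rw [OneMemClass.coe_one, hf.1.map_one]
      exact one_mem _
    rw [← hg a (hLA (by omega) a ha)]
    refine mem_map_iff.2 ?_
    rcases (by omega : j = r + 1 ∨ (r = 1 ∧ j = 3)) with rfl | ⟨rfl, rfl⟩
    · exact hnext _ le_rfl (by omega) a ha
    · obtain ⟨i, rfl⟩ := h3gen a ha
      have hvA := hLA (show 1 ≤ 2 by norm_num) v2 hv2
      rw [hgz _ (hLA (by omega) _ hv3), hgc _ hyA _ hvA]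
      exact zpow_mem (L_comm_x (hnext 2 le_rfl (by norm_num) v2 hv2) (g y)) i
  set T : ℕ → Subgroup Ω := fun i => (stepSub y i).map S.subtype with hT
  set A : ℕ → Subgroup Ω := fun i => ((⊤ : Subgroup S).lowerCentralSeries i).map S.subtype with hA
  have hTc : ∀ {i}, i ≤ 3 → Nat.card (T i) = p ^ (5 - i) := fun hi => by
    show Nat.card ((stepSub y _).map S.subtype) = _
    rw [card_map_subtype, card_tower h hp3 hy hi]
  have hAc : ∀ {i}, 1 ≤ i → Nat.card (A i) = p ^ (4 - i) := fun {i} hi => by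
    show Nat.card (((⊤ : Subgroup S).lowerCentralSeries _).map S.subtype) = _
    rw [card_map_subtype, h.cardL hi]
  have hQ : normalizerIn S (T (r + 1)) = T r := tower_normalizer h hp3 hy hr
  have hQ' : normalizerIn S (T r) = T (r - 1) := by
    have := tower_normalizer h hp3 hy (r := r - 1) (by omega)
    rwa [Nat.sub_add_cancel hr1] at this
  have hcB : Nat.card (T (r + 1)) = p * Nat.card (A (r + 1)) := by
    rw [hTc (by omega), hAc (by omega), ← pow_succ']; congr 1; omega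
  have hcQ : Nat.card (T r) = p * Nat.card (T (r + 1)) := by
    rw [hTc (by omega), hTc (by omega), ← pow_succ']; congr 1; omega
  have hK : ∀ f, Iso F (T r) (T r) f → ∀ a ∈ A (r + 1), f a ∈ A (r + 1) := by
    rintro f hf _ ⟨a, ha, rfl⟩
    exact hinv f hf (r + 1) le_rfl a ha
  have hbig : p * Nat.card (T r) ≤ Nat.card (normalizerIn S (T r)) := by
    rw [hQ', hTc (by omega), hTc (by omega), ← pow_succ']
    exact Nat.pow_le_pow_right hpp.pos (by omega)
  have hKB : A (r + 1) ≤ T (r + 1) := map_mono (lcs_le_stepSub y _)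
  have hfnT : F.IsFullyNormalized (T r) := fullyNormalized_step hS hfn hQ hKB hcB hcQ hK hbig
  have hnA : ∀ i, ∀ m ∈ S, ∀ a ∈ A i, m * a * m⁻¹ ∈ A i := by
    intro i m hm a ha
    obtain ⟨a', ha', rfl⟩ := ha
    exact ⟨_, Subgroup.Normal.conj_mem inferInstance a' ha' (⟨m, hm⟩ : S), rfl⟩
  have hJ : ∀ a ∈ A r, f a ∈ A r :=
    fixed_invariant hS hfn hQ hKB hcB hcQ hK hbig (map_mono (L_anti (Nat.le_succ r)))
      (map_mono (lcs_le_stepSub y r))
      (by rw [hAc hr1, hTc (by omega)]; congr 1; omega)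
      (fun g hg => (mem_normalizerIn_of_conj (map_subtype_le _) hg.1 (hnA r g hg.1)).2) hf
  -- the chain
  set C : ℕ → Subgroup Ω := fun i => if i ≤ 4 - r then A (4 - i) else T r with hC
  have hClow : ∀ {i}, i ≤ 4 - r → C i = A (4 - i) := fun hi => if_pos hi
  have hChigh : ∀ {i}, ¬ i ≤ 4 - r → C i = T r := fun hi => if_neg hi
  have hmono : Monotone C := monotone_nat_of_le_succ fun i => by
    by_cases hi : i + 1 ≤ 4 - r
    · rw [hClow hi, hClow (by omega)]
      exact map_mono (L_anti (by omega))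
    · rw [hChigh hi]
      by_cases hi' : i ≤ 4 - r
      · rw [hClow hi']
        exact map_mono ((L_anti (by omega)).trans (lcs_le_stepSub y r))
      · rw [hChigh hi']
  have hfC : ∀ i, i ≤ 5 - r → ∀ a ∈ T r, a ∈ C i → f a ∈ C i := by
    intro i _ a ha haC
    by_cases hi : i ≤ 4 - r
    · rw [hClow hi] at haC ⊢
      rcases (by omega : 4 - i = r ∨ r + 1 ≤ 4 - i) with he | he
      · rw [he] at haC ⊢; exact hJ a haC
      · obtain ⟨a', ha', rfl⟩ := haC
        exact hinv f hf _ he a' ha'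
    · rw [hChigh hi]; exact hf.mem ha
  have hmC : ∀ i, i ≤ 5 - r → ∀ m ∈ normalizerIn S (T r), ∀ a ∈ T r, a ∈ C i → m * a * m⁻¹ ∈ C i := by
    intro i _ m hm a ha haC
    by_cases hi : i ≤ 4 - r
    · rw [hClow hi] at haC ⊢; exact hnA _ m hm.1 a haC
    · rw [hChigh hi]; exact (Subgroup.mem_normalizer_iff.1 hm.2 a).1 ha
  have hstep : ∀ i < 5 - r, ((C i).subgroupOf (T r)).relIndex ((C (i + 1)).subgroupOf (T r)) ≤ p := by
    intro i hi
    have hCT : ∀ i, C i ≤ T r := fun i => by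
      by_cases hi : i ≤ 4 - r
      · rw [hClow hi]; exact map_mono ((L_anti (by omega)).trans (lcs_le_stepSub y r))
      · rw [hChigh hi]
    have hcC : Nat.card (C (i + 1)) = Nat.card (C i) * p := by
      rw [hClow (i := i) (by omega), hAc (by omega)]
      by_cases hi' : i + 1 ≤ 4 - r
      · rw [hClow hi', hAc (by omega), ← pow_succ]; congr 1; omega
      · rw [hChigh hi', hTc (by omega), ← pow_succ]; congr 1; omega
    have h1 := (((C i).subgroupOf (T r)).subgroupOf ((C (i + 1)).subgroupOf (T r))).card_mul_index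
    rw [Nat.card_congr (subgroupOfEquivOfLe
        (show (C i).subgroupOf (T r) ≤ (C (i + 1)).subgroupOf (T r) from fun a ha => hmono (Nat.le_succ i) ha)).toEquiv,
      Nat.card_congr (subgroupOfEquivOfLe (hCT i)).toEquiv,
      Nat.card_congr (subgroupOfEquivOfLe (hCT (i + 1))).toEquiv, hcC] at h1
    haveI := finite_of_le ((hCT i).trans (map_subtype_le _ : T r ≤ S))
    exact (Nat.eq_of_mul_eq_mul_left Nat.card_pos h1).le
  obtain ⟨f', hf', hff'⟩ := exists_extension hS hF hfnT hf hmono (n := 5 - r)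
    (by rw [hChigh (by omega)]) (by
      rw [hClow (by omega)]
      refine (eq_bot_iff_forall _).2 ?_
      rintro _ ⟨a, ha, rfl⟩
      rw [lcs_four h ha le_rfl, map_one]) hfC hmC hstep
  rw [hQ'] at hf'
  exact ⟨hfnT, f', hf', hff'⟩

/-- The bottom of the tower is carried by the top. -/
theorem tower_zero (y : S) : (stepSub y 0).map S.subtype = S := by
  rw [show stepSub y 0 = ⊤ from eq_top_iff.2 fun a _ => lcs_le_stepSub y 0 (Subgroup.mem_top a),
    ← MonoidHom.range_eq_map, Subgroup.range_subtype]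

end Cfsg.Agent.FusFive
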