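import Cfsg.Agent.FusFive.FourCase
import Cfsg.Agent.FusFive.Exists
import Cfsg.Agent.FusFive.Fus

/-!
Systems on groups of order `p ^ 5` equal to their hyperfocal subgroup and without normal subgroup
force an abelian subgroup of index `p`, unless `p = 7`.
-/

set_option autoImplicit false

namespace Cfsg.Agent.FusFive

open Cfsg Cfsg.FusionSystem Cfsg.Agent.FusSys Subgroup
open Cfsg.Agent.MaxClass.TwoStep
open scoped commutatorElement

universe u

variable {Ω : Type u} [Group Ω] {S : Subgroup Ω} {F : FusionSystem S} {p : ℕ} [hp : Fact p.Prime]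
variable [Finite S]

/-- An element of `L 3` of order `p`. -/
theorem exists_top (h : MCl p 5 S) : ∃ z ∈ (⊤ : Subgroup S).lowerCentralSeries 3, orderOf z = p := by
  obtain ⟨z, hz, hz'⟩ := h.ne_step (i := 3) (by norm_num) (by norm_num)
  refine ⟨z, hz, orderOf_eq_prime ?_ fun e => hz' (e ▸ one_mem _)⟩
  have h1 := congrArg Subtype.val (pow_card_eq_one' (x := (⟨z, hz⟩ : ↥((⊤ : Subgroup S).lowerCentralSeries 3))))
  rw [h.cardL (by norm_num), show 5 - 1 - 3 = 1 by rfl, pow_one, SubmonoidClass.coe_pow,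
    OneMemClass.coe_one] at h1
  exact h1

/-- A pearl gives `p ∣ 63`. -/
theorem dvd_of_pearl (hS : IsPGroup p S) (hF : F.IsSaturated p) (h : MCl p 5 S) (hp3 : 3 ≤ p)
    (hNA : NoAb p S) {E : Subgroup Ω} (hE : F.IsEssential p E) (hEc : Nat.card E = p ^ 2) : p ∣ 63 := by
  obtain ⟨t, ht⟩ := hp.out.odd_of_ne_two (by omega)
  obtain ⟨φ, -, y, hy, -, -, hφy, hφz⟩ :=
    pearl_lift hS hF h hp3 hE hEc (k := 2) (k' := (t : ℤ) + 1) ⟨1, by rw [ht]; push_cast; ring⟩
  obtain ⟨d, -, hdy, -, hdz⟩ := scalars h hp3 hNA φ hy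
  rw [hφy, ← zpow_neg, ← zpow_add] at hdy
  have hd := exponent_of_commute h hp3 hy hdy
  obtain ⟨z, hz, hzo⟩ := exists_top h
  have h1 := (hφz z hz).symm.trans (hdz z hz)
  rw [← mul_inv_eq_one, ← zpow_neg, ← zpow_add, ← orderOf_dvd_iff_zpow_eq_one, hzo] at h1
  rw [← ZMod.intCast_zmod_eq_zero_iff_dvd] at hd h1
  push_cast at hd h1
  have hk : ((2 * t + 1 : ℕ) : ZMod p) = 0 :=
    (congrArg Nat.cast ht).symm.trans (ZMod.natCast_self p)
  push_cast at hk
  have h2 : (d : ZMod p) = 2 := by linear_combination -hd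
  rw [h2] at h1
  exact (ZMod.natCast_eq_zero_iff 63 p).1 (by push_cast; linear_combination hk - 2 * h1)

/-- For `p = 3` the focal subgroup is proper. -/
theorem three_false (hS : IsPGroup p S) (hF : F.IsSaturated p) (h : MCl p 5 S) (hpe : p = 3)
    (hNA : NoAb p S) (hhyp : F.hyperfocalSubgroup p = S) {E : Subgroup Ω} (hE : F.IsEssential p E)
    (hEc : Nat.card E = p ^ 2) : False := by
  have hp3 : 3 ≤ p := hpe.ge
  have hp2 : p ≠ 2 := by omega
  have hcard := h.cardX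
  obtain ⟨⟨y, -, hy⟩, -⟩ := pearl_shape h hp3 hE.1 hEc
  obtain ⟨s, hs, hs'⟩ := exists_first h hp3
  obtain ⟨-, hiff, -⟩ := decomp h.pgrp (h.L1_le_K 1)
    (by rw [(k_facts h hp3).1, h.cardL le_rfl]; ring) hs hs'
  have hfix : ∀ α ∈ F.autGroup S, s⁻¹ * α s ∈ _root_.commutator S := by
    intro α _
    obtain ⟨d, hd, -, hds, -⟩ := scalars h hp3 hNA α hy
    have h2 : s ^ (d * d - 1) ∈ (⊤ : Subgroup S).lowerCentralSeries 1 := by
      refine (hiff _).2 ?_
      rw [hpe] at hd ⊢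
      have hdm : d % 3 = 1 ∨ d % 3 = 2 := by omega
      refine Int.dvd_of_emod_eq_zero ?_
      rcases hdm with e | e <;> simp [Int.sub_emod, Int.mul_emod, e]
    have h3 := mul_mem h2 (hds s hs)
    rwa [show s ^ (d * d - 1) * ((s ^ (d * d))⁻¹ * α s) = s⁻¹ * α s by group] at h3
  obtain ⟨M, hM, hsM, hMinv⟩ := exists_invariant hS hF le_rfl hs' hfix
  refine false_of_focal hhyp hsM (focal_le_of_essential hS hF hM hMinv fun P hP α _ x hx => ?_)
  have hle : P.subgroupOf S ≤ M := by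
    rcases essential_card hS hF hcard hP with hk | hk | hk
    · exact pearl_le hS hF h hp3 hP hk hM hMinv
    · rcases essential_cube hS hF hP hk with hel | ⟨-, hex, hexp⟩ | ⟨h2, -⟩
      · exact (cube_false hS hF hp2 hcard hNA hhyp hP
          (fun a ha b hb => congrArg Subtype.val (hel.1.is_comm.comm ⟨a, ha⟩ ⟨b, hb⟩)) hel.2 hk).elim
      · exact extra_le hS hF h hp3 hP hk hex hexp hM hMinv
      · exact absurd h2 hp2
    · exact (four_false hS h hp3 hpe.le hNA hy hP hk).elim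
  have hm := P.mul_mem (P.inv_mem hx) (apl_mem α hx)
  exact ⟨⟨_, hP.1.1 hm⟩, hle (mem_subgroupOf.2 hm), rfl⟩

/-- The main statement. -/
theorem no_counterexample (hS : IsPGroup p S) (hF : F.IsSaturated p) (hp2 : p ≠ 2) (hp7 : p ≠ 7)
    (hcard : Nat.card S = p ^ 5) (hNA : NoAb p S) (hhyp : F.hyperfocalSubgroup p = S)
    (hcore : F.core = ⊥) : False := by
  have hpp := hp.out
  have hp3 : 3 ≤ p := by have := hpp.two_le; omega
  obtain ⟨E, hE, hEc⟩ := exists_pearl hS hF hp2 hcard hNA hhyp hcore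
  have h := mcl_of_pearl hcard hE hEc
  refine three_false hS hF h ?_ hNA hhyp hE hEc
  have h63 := dvd_of_pearl hS hF h hp3 hNA hE hEc
  rcases hpp.dvd_mul.1 (show p ∣ 9 * 7 from h63) with h9 | h7
  · exact (Nat.prime_dvd_prime_iff_eq hpp Nat.prime_three).1
      (hpp.dvd_of_dvd_pow (show p ∣ 3 ^ 2 from h9))
  · exact absurd ((Nat.prime_dvd_prime_iff_eq hpp (by norm_num)).1 h7) hp7

end Cfsg.Agent.FusFive
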