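import Cfsg.Agent.FusSys.RankTwoTorus
import Cfsg.Agent.FusSys.SmallCentral
import Cfsg.Agent.FusSys.ThreeDim

/-!
The torus of an essential subgroup with a characteristic quotient of order `p ^ 2`.
-/

set_option autoImplicit false

namespace Cfsg.Agent.FusFive

open Cfsg Cfsg.FusionSystem Cfsg.Agent.FusSys Subgroup

universe u

variable {Ω : Type u} [Group Ω] {S : Subgroup Ω} {F : FusionSystem S} {p : ℕ} [hp : Fact p.Prime]
variable [Finite S]

/-- Torus elements normalising the automorphisms induced by `S`. -/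
theorem plane_torus (hS : IsPGroup p S) (hF : F.IsSaturated p) {P : Subgroup Ω} (hP : F.IsEssential p P)
    (R : Subgroup P) [hR : R.Characteristic] (hcard : Nat.card (P ⧸ R) = p ^ 2)
    (hexp : ∀ a : P, a ^ p ∈ R) (hab : _root_.commutator P ≤ R)
    (hker : ∀ α : MulAut P, (∀ a, a⁻¹ * α a ∈ R) → α ^ p = 1) :
    ∃ a₁ a₂ : P, a₁ ∉ R ∧ (∀ i : ℤ, (a₁ ^ i)⁻¹ * a₂ ∉ R) ∧
      (∀ g ∈ normalizerIn S P, ∀ b : P, (b : Ω) = g * a₁ * g⁻¹ → a₁⁻¹ * b ∈ R) ∧
      ∀ l l' : ℤ, (p : ℤ) ∣ l * l' - 1 → ∃ α ∈ F.autGroup P,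
        (a₁ ^ l)⁻¹ * α a₁ ∈ R ∧ (a₂ ^ l')⁻¹ * α a₂ ∈ R ∧
        ∀ γ ∈ autInducedBy S P, α * γ * α⁻¹ ∈ autInducedBy S P := by
  classical
  have hpp := hp.out
  have hPS := hP.1.1
  haveI := finite_of_le hPS
  haveI : Finite (MulAut P) := Finite.of_injective _ MulEquiv.toEquiv_injective
  haveI : IsMulCommutative (P ⧸ R) := Subgroup.Normal.quotient_commutative_iff_commutator_le.2 hab
  letI : CommGroup (P ⧸ R) :=
    { (inferInstance : Group (P ⧸ R)) with
      mul_comm := fun a b => IsMulCommutative.is_comm.comm a b }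
  have hexpV : ∀ v : P ⧸ R, v ^ p = 1 := fun v => by
    induction v using QuotientGroup.induction_on with
    | H a => rw [← QuotientGroup.mk_pow, QuotientGroup.eq_one_iff]; exact hexp a
  let ψ0 : MulAut P →* MulAut (P ⧸ R) :=
    MonoidHom.mk' (fun α => QuotientGroup.congr R R α (characteristic_iff_map_eq.1 hR α))
      fun α β => MulEquiv.ext fun v => by
        induction v using QuotientGroup.induction_on with
        | H a => rfl
  let ψ : F.autGroup P →* MulAut (P ⧸ R) := ψ0.comp (F.autGroup P).subtype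
  have hψ : ∀ (α : F.autGroup P) (a : P), ψ α (a : P ⧸ R) = (((α : MulAut P) a : P) : P ⧸ R) := fun α a => rfl
  haveI := innIn_normal F P
  set I := innIn F P
  -- normal subgroups acting with exponent `p` are inner
  have hkp : ∀ α : F.autGroup P, ψ α = 1 → α ^ p = 1 := fun α hα => Subtype.ext (by
    rw [SubmonoidClass.coe_pow, OneMemClass.coe_one]
    refine hker _ fun a => QuotientGroup.eq.1 ?_
    rw [← hψ, hα, MulAut.one_apply])
  have hcore : ∀ N : Subgroup (F.autGroup P), N.Normal → (∀ a ∈ N, (ψ a) ^ p = 1) → N ≤ I := by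
    intro N hN hpow
    have hNp : IsPGroup p N := fun a => ⟨2, Subtype.ext (by
      rw [SubmonoidClass.coe_pow, OneMemClass.coe_one, pow_two, pow_mul]
      exact hkp _ (by rw [map_pow]; exact hpow a a.2))⟩
    intro a ha
    have h1 : a ∈ pCore p (F.autGroup P) := Cfsg.Agent.Core.le_pCore (N := N) (hN := hN) hNp ha
    exact mem_subgroupOf.2 ((essential_radical hS hF hP).2 ▸ Subgroup.mem_map.2 ⟨a, h1, rfl⟩)
  have hkerI : ∀ α : F.autGroup P, ψ α = 1 → α ∈ I := fun α hα =>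
    hcore ψ.ker inferInstance (fun a ha => by rw [MonoidHom.mem_ker.1 ha, one_pow]) hα
  -- an outer element induced by `S`
  have hne : P ≠ S := fun e => SmallCentral.not_essential_top' hS hF (e ▸ hP)
  obtain ⟨g, hgN, hgP⟩ := SetLike.exists_of_lt (lt_normalizerIn hS (lt_of_le_of_ne hPS hne))
  obtain ⟨β, hβ, hβx⟩ := exists_mem_autInducedBy (P := P) hgN.1 hgN.2
  obtain ⟨u, hu⟩ : ∃ u : F.autGroup P, (u : MulAut P) = β := ⟨⟨β, autInducedBy_le_autGroup hPS hβ⟩, rfl⟩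
  have huI : u ∉ I := fun h => hgP (mem_of_conj_mem_inn (centric_self hP.1) hPS hgN.1 hβx (hu ▸ mem_subgroupOf.1 h))
  set T := (autInducedBy S P).subgroupOf (F.autGroup P) with hT
  have hTp : IsPGroup p T := (isPGroup_autInducedBy hS).comap_subtype
  have huT : u ∈ T := mem_subgroupOf.2 (hu ▸ hβ)
  obtain ⟨v₁, v₂, ht⟩ := RankTwoResist.exists_torus (φ := ψ) hexpV hcard hTp huT
    (fun e => huI (hkerI u e)) fun N hN hpow hmem => huI (hcore N hN hpow hmem)
  obtain ⟨a₁, rfl⟩ := QuotientGroup.mk_surjective v₁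
  obtain ⟨a₂, rfl⟩ := QuotientGroup.mk_surjective v₂
  refine ⟨a₁, a₂, fun h => ht.ne_one ((QuotientGroup.eq_one_iff a₁).2 h), fun i hi => ?_,
    fun g hg b hb => ?_, fun l l' hll => ?_⟩
  · exact ht.indep (mem_zpowers_iff.2 ⟨i, by rw [← QuotientGroup.mk_zpow]; exact QuotientGroup.eq.2 hi⟩)
  · obtain ⟨γ, hγ, hγx⟩ := exists_mem_autInducedBy (P := P) hg.1 hg.2
    have h1 := (ht.fix ⟨γ, autInducedBy_le_autGroup hPS hγ⟩ (mem_subgroupOf.2 hγ)).1
    rw [hψ] at h1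
    have h2 : γ a₁ = b := Subtype.ext (by rw [← apl_coe, hγx _ a₁.2, hb])
    exact h2 ▸ QuotientGroup.eq.1 h1.symm
  have hll' : ((l * l' : ℤ) : ZMod p) = 1 := by
    obtain ⟨r, hr⟩ := hll
    rw [show l * l' = (p : ℤ) * r + 1 by omega]
    push_cast
    simp
  obtain ⟨a, ha1, ha2⟩ := ht.torus l l' hll'
  refine ⟨(a : MulAut P), a.2, ?_, ?_, fun γ hγ => ?_⟩
  · rw [← QuotientGroup.eq, QuotientGroup.mk_zpow, ← hψ, ha1]
  · rw [← QuotientGroup.eq, QuotientGroup.mk_zpow, ← hψ, ha2]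
  obtain ⟨c, hc⟩ : ∃ c : F.autGroup P, (c : MulAut P) = γ := ⟨⟨γ, autInducedBy_le_autGroup hPS hγ⟩, rfl⟩
  have hcT : c ∈ T := mem_subgroupOf.2 (hc ▸ hγ)
  obtain ⟨hc1, j, hc2⟩ := ht.fix c hcT
  -- compare with a power
  have heq : ψ (a * c * a⁻¹) = ψ (c ^ (l * l)) := by
    have hzc1 : ∀ m : ℤ, (ψ c ^ m) (a₁ : P ⧸ R) = a₁ ∧ (ψ c ^ m) (a₂ : P ⧸ R) = a₂ * (a₁ : P ⧸ R) ^ (j * m) := by
      intro m
      induction m using Int.induction_on with
      | zero => simp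
      | succ m ih =>
        rw [zpow_add_one, MulAut.mul_apply, MulAut.mul_apply, hc1, hc2, map_mul, map_zpow, ih.1, ih.2,
          mul_assoc, ← zpow_add]
        exact ⟨rfl, by ring_nf⟩
      | pred m ih =>
        have h1 : (ψ c)⁻¹ (a₁ : P ⧸ R) = a₁ := by
          conv_lhs => rw [← hc1]
          rw [MulAut.inv_apply_self]
        have h2 : (ψ c)⁻¹ (a₂ : P ⧸ R) = a₂ * (a₁ : P ⧸ R) ^ (-j) := by
          apply (ψ c).injective
          rw [MulAut.apply_inv_self, map_mul, map_zpow, hc1, hc2, mul_assoc, ← zpow_add, add_neg_cancel,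
            zpow_zero, mul_one]
        rw [zpow_sub_one, MulAut.mul_apply, MulAut.mul_apply, h1, h2, map_mul, map_zpow, ih.1, ih.2,
          mul_assoc, ← zpow_add]
        exact ⟨rfl, by ring_nf⟩
    refine MulEquiv.ext fun v => ?_
    obtain ⟨i, i', rfl⟩ := ht.span v
    have hz : ∀ w : P ⧸ R, w ^ (l * l') = w := fun w => by
      obtain ⟨r, hr⟩ := hll
      rw [show l * l' = (p : ℤ) * r + 1 by omega, zpow_add, zpow_mul, zpow_natCast, hexpV, one_zpow,
        one_mul, zpow_one]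
    have hi1 : (ψ a)⁻¹ (a₁ : P ⧸ R) = (a₁ : P ⧸ R) ^ l' := by
      apply (ψ a).injective
      rw [MulAut.apply_inv_self, map_zpow, ha1, ← zpow_mul, hz]
    have hi2 : (ψ a)⁻¹ (a₂ : P ⧸ R) = (a₂ : P ⧸ R) ^ l := by
      apply (ψ a).injective
      rw [MulAut.apply_inv_self, map_zpow, ha2, ← zpow_mul, mul_comm l' l, hz]
    have f1 : ψ (a * c * a⁻¹) (a₁ : P ⧸ R) = a₁ := by
      rw [map_mul, map_mul, map_inv, MulAut.mul_apply, MulAut.mul_apply, hi1, map_zpow, hc1, map_zpow,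
        ha1, ← zpow_mul, hz]
    have f2 : ψ (a * c * a⁻¹) (a₂ : P ⧸ R) = a₂ * (a₁ : P ⧸ R) ^ (j * (l * l)) := by
      rw [map_mul, map_mul, map_inv, MulAut.mul_apply, MulAut.mul_apply, hi2, map_zpow, hc2, mul_zpow,
        map_mul, map_zpow, map_zpow, map_zpow, ha1, ha2, ← zpow_mul, ← zpow_mul, ← zpow_mul,
        mul_comm l' l, hz, mul_comm l (j * l), mul_assoc]
    rw [map_mul (ψ (a * c * a⁻¹)), map_zpow (ψ (a * c * a⁻¹)), map_zpow (ψ (a * c * a⁻¹)), f1, f2,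
      map_mul (ψ (c ^ (l * l))), map_zpow (ψ (c ^ (l * l))), map_zpow (ψ (c ^ (l * l))), map_zpow ψ,
      (hzc1 _).1, (hzc1 _).2]
  have hδ : (c ^ (l * l))⁻¹ * (a * c * a⁻¹) ∈ I := hkerI _ (by rw [map_mul, map_inv, heq, inv_mul_cancel])
  have hmem : a * c * a⁻¹ ∈ T := by
    rw [← mul_inv_cancel_left (c ^ (l * l)) (a * c * a⁻¹)]
    exact T.mul_mem (T.zpow_mem hcT _) (inn_le_autInducedBy hPS (mem_subgroupOf.1 hδ))
  rw [← hc]
  exact mem_subgroupOf.1 hmem

end Cfsg.Agent.FusFive
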