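import Cfsg.Agent.FusFive.Lift
import Cfsg.Agent.FusFive.Torus
import Cfsg.Agent.RankThreeEss.Lift
import Cfsg.Agent.FusSys.EssentialSmall
import Cfsg.Agent.MaxClass.SelfCent

/-!
Torus elements of pearls in maximal class of order `p ^ 5` extend to `S`.
-/

set_option autoImplicit false

namespace Cfsg.Agent.FusFive

open Cfsg Cfsg.FusionSystem Cfsg.Agent.FusSys Subgroup
open Cfsg.Agent.MaxClass.TwoStep
open Cfsg.Agent.MaxClass.Graded (L_anti L_comm L_comm_x)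
open scoped commutatorElement

universe u

variable {Ω : Type u} [Group Ω] {S : Subgroup Ω} {F : FusionSystem S} {p : ℕ} [hp : Fact p.Prime]
variable [Finite S]

/-- A pearl makes `S` of maximal class. -/
theorem mcl_of_pearl (hcard : Nat.card S = p ^ 5) {E : Subgroup Ω}
    (hE : F.IsEssential p E) (hEc : Nat.card E = p ^ 2) : MCl p 5 S := by
  have hES := hE.1.1
  have hc : Nat.card (E.subgroupOf S) = p ^ 2 := (Nat.card_congr (subgroupOfEquivOfLe hES).toEquiv).trans hEc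
  refine ⟨by norm_num, hcard, Cfsg.Agent.MaxClass.class_of_selfcent_sq 5 S hcard (E.subgroupOf S) hc
    fun y hy => mem_subgroupOf.2 (centric_self hE.1 ⟨y.2, mem_centralizer_iff.2 fun a ha =>
      congrArg Subtype.val (mem_centralizer_iff.1 hy ⟨a, hES ha⟩ ha)⟩)⟩

omit hp [Finite S] in
theorem mem_of_commute_centric {E : Subgroup Ω} (hE : F.IsCentric E) {z : S}
    (h : ∀ a : S, (a : Ω) ∈ E → Commute a z) : (z : Ω) ∈ E :=
  centric_self hE ⟨z.2, mem_centralizer_iff.2 fun a ha => congrArg Subtype.val (h ⟨a, hE.1 ha⟩ ha).eq⟩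

/-- A centric subgroup is not inside `K 1`, unless it contains `L 2`. -/
theorem lcs_two_le (h : MCl p 5 S) (hp3 : 3 ≤ p) {E : Subgroup Ω} (hE : F.IsCentric E)
    (hK : E.subgroupOf S ≤ K (S : Type u) 1) :
    (⊤ : Subgroup S).lowerCentralSeries 2 ≤ E.subgroupOf S := fun z hz =>
  mem_subgroupOf.2 (mem_of_commute_centric hE fun a ha =>
    (k_facts h hp3).2.2.1 a (hK (mem_subgroupOf.2 ha)) z hz)

/-- An element outside `K 1` commutes with `L 3` only, among the elements of `L 1`. -/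
theorem exponent_of_commute (h : MCl p 5 S) (hp3 : 3 ≤ p) {y : S} (hy : y ∉ K (S : Type u) 1) {i : ℤ}
    (hi : y ^ i ∈ K (S : Type u) 1) : (p : ℤ) ∣ i :=
  ((decomp h.pgrp (le_top : K (S : Type u) 1 ≤ ⊤)
    (by rw [card_top, h.cardX, (k_facts h hp3).1]; ring) (Subgroup.mem_top y) hy).2.1 i).1 hi

/-- The shape of a pearl. -/
theorem pearl_shape (h : MCl p 5 S) (hp3 : 3 ≤ p) {E : Subgroup Ω} (hE : F.IsCentric E)
    (hEc : Nat.card E = p ^ 2) :
    (∃ y ∈ E.subgroupOf S, y ∉ K (S : Type u) 1) ∧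
      ∀ y ∈ E.subgroupOf S, y ∉ K (S : Type u) 1 → E.subgroupOf S = stepSub y 3 := by
  have hcE : Nat.card (E.subgroupOf S) = p ^ 2 := (Nat.card_congr (subgroupOfEquivOfLe hE.1).toEquiv).trans hEc
  refine ⟨?_, fun y hy hy' => (eq_of_le_of_card_ge (sup_le (zpowers_le.2 hy) fun z hz => mem_subgroupOf.2
    (mem_of_commute_centric hE fun a _ => lcs_three_central h hz a)) ?_).symm⟩
  · by_contra! hall
    have hL2 := lcs_two_le h hp3 hE hall
    have e : (⊤ : Subgroup S).lowerCentralSeries 2 = E.subgroupOf S := eq_of_le_of_card_ge hL2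
      (by rw [hcE, h.cardL (by norm_num)])
    have hle : K (S : Type u) 1 ≤ E.subgroupOf S := fun g hg => mem_subgroupOf.2
      (mem_of_commute_centric hE fun a ha => by
        have ha' : a ∈ E.subgroupOf S := mem_subgroupOf.2 ha
        rw [← e] at ha'
        exact ((k_facts h hp3).2.2.1 g hg a ha').symm)
    have h1 := Subgroup.card_le_of_le hle
    rw [hcE, (k_facts h hp3).1] at h1
    exact absurd ((Nat.pow_le_pow_iff_right hp.out.one_lt).1 h1) (by norm_num)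
  · show _ ≤ Nat.card ↥(stepSub y 3)
    rw [card_tower h hp3 hy' le_rfl, hcE]

/-- A torus element of a pearl extends to `S`. -/
theorem pearl_lift (hS : IsPGroup p S) (hF : F.IsSaturated p) (h : MCl p 5 S) (hp3 : 3 ≤ p)
    {E : Subgroup Ω} (hE : F.IsEssential p E) (hEc : Nat.card E = p ^ 2) {k k' : ℤ}
    (hkk : (p : ℤ) ∣ k' * k - 1) :
    ∃ φ ∈ F.autGroup S, ∃ y : S, y ∉ K (S : Type u) 1 ∧ (y : Ω) ∈ E ∧
      E.subgroupOf S = stepSub y 3 ∧ φ y = y ^ k ∧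
      ∀ z ∈ (⊤ : Subgroup S).lowerCentralSeries 3, φ z = z ^ k' := by
  classical
  have hpp := hp.out
  have hES := hE.1.1
  haveI := finite_of_le hES
  haveI : (⊥ : Subgroup E).Characteristic := Subgroup.characteristic_iff_map_eq.2 fun α => map_bot _
  obtain ⟨hel, -⟩ := elementary_and_sl2 hE hEc
  obtain ⟨a₁, a₂, ha1, ha2, hfix, htor⟩ := plane_torus hS hF hE (⊥ : Subgroup E)
    (by rw [Nat.card_congr QuotientGroup.quotientBot.toEquiv, hEc])
    (fun a => mem_bot.2 (Subtype.ext (by simpa using hel.2 a a.2)))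
    (by
      rw [_root_.commutator_def, commutator_le]
      intro a _ b _
      rw [mem_bot, commutatorElement_eq_one_iff_mul_comm]
      exact hel.1.is_comm.comm a b)
    (fun α hα => by
      have e : α = 1 := MulEquiv.ext fun a => (inv_mul_eq_one.1 (mem_bot.1 (hα a))).symm
      rw [e, one_pow])
  obtain ⟨α, hα, hα1, hα2, hαn⟩ := htor k' k hkk
  rw [mem_bot, inv_mul_eq_one] at hα1 hα2
  obtain ⟨y₁, hy₁⟩ : ∃ y : S, (y : Ω) = a₁ := ⟨⟨a₁, hES a₁.2⟩, rfl⟩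
  obtain ⟨y, hy₂⟩ : ∃ y : S, (y : Ω) = a₂ := ⟨⟨a₂, hES a₂.2⟩, rfl⟩
  obtain ⟨⟨y0, hy0E, hy0⟩, hshape⟩ := pearl_shape h hp3 hE.1 hEc
  have hE0 := hshape y0 hy0E hy0
  have hEmap : ∀ r : S, (E.subgroupOf S = stepSub r 3) → (stepSub r 3).map S.subtype = E := fun r hr => by
    rw [← hr, Subgroup.subgroupOf_map_subtype, inf_eq_left.2 hES]
  have hN0 : normalizerIn S E = (stepSub y0 2).map S.subtype := by
    rw [← hEmap y0 hE0]; exact tower_normalizer h hp3 hy0 le_rfl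
  obtain ⟨v, hv, hv'⟩ := h.ne_step (i := 2) (by norm_num) (by norm_num)
  -- `a₁` lies in `L 3`
  have hy₁L : y₁ ∈ (⊤ : Subgroup S).lowerCentralSeries 3 := by
    have hmem : y₁ ∈ stepSub y0 3 := hE0 ▸ mem_subgroupOf.2 (hy₁ ▸ a₁.2)
    obtain ⟨i, l, hl, hil⟩ := mem_stepSub.1 hmem
    have hvN : (v : Ω) ∈ normalizerIn S E := by
      rw [hN0]; exact mem_map_of_mem _ (lcs_le_stepSub y0 2 hv)
    have hb : (v : Ω) * a₁ * (v : Ω)⁻¹ ∈ E := (Subgroup.mem_normalizer_iff.1 hvN.2 a₁).1 a₁.2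
    have h1 : (⟨_, hb⟩ : E) = a₁ := (inv_mul_eq_one.1 (mem_bot.1 (hfix v hvN ⟨_, hb⟩ rfl))).symm
    have h2 : Commute v y₁ := Subtype.ext (by
      have e := congrArg Subtype.val h1
      simp only [Subgroup.coe_mul, hy₁]
      exact mul_inv_eq_iff_eq_mul.1 e)
    have h3 : Commute v (y0 ^ i) := by
      have := (hil ▸ h2).mul_right (lcs_three_central h (inv_mem hl) v)
      rwa [mul_inv_cancel_right] at this
    have hi : (p : ℤ) ∣ i := exponent_of_commute h hp3 hy0 (by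
      rw [← (k_facts h hp3).2.1]
      exact h.mem_K_of_one (by norm_num) hv hv'
        (by rw [commutatorElement_eq_one_iff_mul_comm.2 h3.eq.symm]; exact one_mem _))
    obtain ⟨q, rfl⟩ := hi
    rw [hil, zpow_mul, zpow_natCast]
    exact mul_mem (zpow_mem (outside h hp3 hy0).2.2.2 q) hl
  have hy₁1 : y₁ ≠ 1 := fun e => ha1 (mem_bot.2 (Subtype.ext (by rw [← hy₁, e]; rfl)))
  have h3c : Nat.card ↥((⊤ : Subgroup S).lowerCentralSeries 3) = p := by
    rw [h.cardL (by norm_num), show 5 - 1 - 3 = 1 by rfl, pow_one]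
  have h3gen : ∀ z ∈ (⊤ : Subgroup S).lowerCentralSeries 3, ∃ i : ℤ, z = y₁ ^ i := fun z hz => by
    obtain ⟨i, hi⟩ := mem_zpowers_iff.1 (mem_zpowers_of_prime_card h3c
      (g := (⟨y₁, hy₁L⟩ : ↥((⊤ : Subgroup S).lowerCentralSeries 3))) (g' := ⟨z, hz⟩)
      (fun e => hy₁1 (congrArg Subtype.val e)))
    have e := congrArg Subtype.val hi
    rw [SubgroupClass.coe_zpow] at e
    exact ⟨i, e.symm⟩
  -- `a₂` lies outside `K 1`
  have hyK : y ∉ K (S : Type u) 1 := by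
    intro hyK
    have hmem : y ∈ stepSub y0 3 := hE0 ▸ mem_subgroupOf.2 (hy₂ ▸ a₂.2)
    obtain ⟨i, l, hl, hil⟩ := mem_stepSub.1 hmem
    have hi : (p : ℤ) ∣ i := exponent_of_commute h hp3 hy0 (by
      have := mul_mem hyK (inv_mem (h.L1_le_K 1 (L_anti (show 1 ≤ 3 by norm_num) hl)))
      rwa [hil, mul_inv_cancel_right] at this)
    obtain ⟨q, rfl⟩ := hi
    have hy3 : y ∈ (⊤ : Subgroup S).lowerCentralSeries 3 := by
      rw [hil, zpow_mul, zpow_natCast]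
      exact mul_mem (zpow_mem (outside h hp3 hy0).2.2.2 q) hl
    obtain ⟨j, hj⟩ := h3gen y hy3
    refine ha2 j (mem_bot.2 (inv_mul_eq_one.2 (Subtype.ext ?_)))
    rw [SubgroupClass.coe_zpow, ← hy₁, ← hy₂, hj, SubgroupClass.coe_zpow]
  have hEy := hshape y (mem_subgroupOf.2 (hy₂ ▸ a₂.2)) hyK
  have hT3 := hEmap y hEy
  -- extend to `S`
  obtain ⟨g, hg, hgx⟩ := Cfsg.Agent.RankThreeEss.exists_extension hS hF hE.2.1 hα hαn
  have hN : normalizerIn S E = (stepSub y 2).map S.subtype := by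
    rw [← hT3]; exact tower_normalizer h hp3 hyK le_rfl
  have hgI : Iso F ((stepSub y 2).map S.subtype) ((stepSub y 2).map S.subtype) (apl g) :=
    hN ▸ iso_apl (normalizerIn_le S E) hg
  obtain ⟨hfn2, f1, hf1, hf1x⟩ := climb hS hF h hp3 hyK (by norm_num) le_rfl (hT3.symm ▸ hE.2.1) hgI
  obtain ⟨-, f0, hf0, hf0x⟩ := climb hS hF h hp3 hyK le_rfl (by norm_num) hfn2 hf1
  rw [Nat.sub_self, tower_zero] at hf0
  obtain ⟨φ, hφ, hφx⟩ := hf0.exists_mem_autGroup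
  have hφE : ∀ (a : S) (ha : (a : Ω) ∈ E), ((φ a : S) : Ω) = (α ⟨a, ha⟩ : E) := by
    intro a ha
    have h3 : (a : Ω) ∈ (stepSub y 3).map S.subtype := hT3.symm ▸ ha
    have h2 : (a : Ω) ∈ (stepSub y 2).map S.subtype := map_mono (stepSub_mono y (by norm_num)) h3
    have h1 : (a : Ω) ∈ (stepSub y 1).map S.subtype := map_mono (stepSub_mono y (by norm_num)) h3
    rw [← apl_coe φ a, hφx _ a.2, hf0x _ h1, hf1x _ h2, hgx _ ha, apl_apply α ha]
  refine ⟨φ, hφ, y, hyK, hy₂ ▸ a₂.2, hEy, Subtype.ext ?_, fun z hz => ?_⟩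
  · rw [hφE y (hy₂ ▸ a₂.2), show (⟨(y : Ω), hy₂ ▸ a₂.2⟩ : E) = a₂ from Subtype.ext hy₂, ← hα2,
      SubgroupClass.coe_zpow, SubgroupClass.coe_zpow, hy₂]
  · obtain ⟨i, rfl⟩ := h3gen z hz
    have e : φ y₁ = y₁ ^ k' := Subtype.ext (by
      rw [hφE y₁ (hy₁ ▸ a₁.2), show (⟨(y₁ : Ω), hy₁ ▸ a₁.2⟩ : E) = a₁ from Subtype.ext hy₁, ← hα1,
        SubgroupClass.coe_zpow, SubgroupClass.coe_zpow, hy₁])
    rw [map_zpow, e, ← zpow_mul, ← zpow_mul, mul_comm]

/-- A fixed homomorphism kills pearls, `p` odd. -/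
theorem pearl_le (hS : IsPGroup p S) (hF : F.IsSaturated p) (h : MCl p 5 S) (hp3 : 3 ≤ p)
    {E : Subgroup Ω} (hE : F.IsEssential p E) (hEc : Nat.card E = p ^ 2) {M : Subgroup S}
    (hM : _root_.commutator S ≤ M) (hMinv : ∀ α ∈ F.autGroup S, ∀ a : S, a⁻¹ * α a ∈ M) :
    E.subgroupOf S ≤ M := by
  obtain ⟨φ, hφ, y, hy, -, hE3, hφy, -⟩ := pearl_lift hS hF h hp3 hE hEc (k := -1) (k' := -1) (by norm_num)
  have hM1 : ∀ j, 1 ≤ j → (⊤ : Subgroup S).lowerCentralSeries j ≤ M := fun j hj =>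
    (L_anti hj).trans (show (⊤ : Subgroup S).lowerCentralSeries 1 ≤ M from hM)
  rw [hE3]
  refine sup_le (zpowers_le.2 ?_) (hM1 3 (by norm_num))
  have h1 := hMinv φ hφ y
  rw [hφy, zpow_neg_one, ← mul_inv_rev] at h1
  have h2 : y ^ 2 ∈ M := by
    rw [pow_two]; simpa using M.inv_mem h1
  have hodd : Odd p := hp.out.odd_of_ne_two (by omega)
  obtain ⟨t, ht⟩ := hodd
  have h3 : y ^ p ∈ M := hM1 3 (by norm_num) (outside h hp3 hy).2.2.2
  rw [ht, pow_succ, pow_mul] at h3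
  have h4 := M.mul_mem (M.inv_mem (M.pow_mem h2 t)) h3
  rwa [inv_mul_cancel_left] at h4

end Cfsg.Agent.FusFive
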